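import Cfsg.Agent.ReeSq.Move

/-!
`²F₄(q)`: the torus parts of the two rank one groups and the resulting moves.
-/

set_option autoImplicit false
set_option linter.style.haveILetI false
set_option linter.unusedSectionVars false

namespace CfsgLib.ReeSq

open Cfsg.Lie Matrix CfsgLib.Chev CfsgLib.Chev.Tab
open scoped MatrixGroups

theorem chkAxes :
    (∀ r ∈ ([33, 24] : List ℕ), F4Data.tab.chkCommute 2 r 39 = true) ∧
    (∀ r ∈ ([27, 25, 28, 30] : List ℕ), F4Data.tab.chkCommute 2 r 44 = true) ∧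
    F4Data.tab.wordT [0, 3] 39 = 39 ∧ F4Data.tab.wordT [1, 2, 1, 2] 44 = 44 ∧
    F4Data.tab.wordT [0, 3] 24 = negR chevF4 24 ∧
    F4Data.tab.wordT [1, 2, 1, 2] 28 = negR chevF4 28 := by
  decide +kernel

theorem cartAxes :
    (∀ i : Fin 4, F4Data.tab.cart i 39 = (![0, -1, 1, 0] : Fin 4 → ℤ) i) ∧
    ∀ i : Fin 4, F4Data.tab.cart i 44 = (![1, 0, 0, 0] : Fin 4 → ℤ) i := by
  decide +kernel

variable {K : Type*} [Field K] [Fintype K] {m : ℕ} (C : F4Tw.Ctx K m)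
include C

theorem units_sq_inj {a : Kˣ} (h : a ^ 2 = 1) : a = 1 := by
  have h1 : a ^ (2 ^ (2 * m + 1)) = 1 := by rw [pow_succ', pow_mul, h, one_pow]
  rw [show 2 ^ (2 * m + 1) = 2 * 2 ^ m * 2 ^ m by ring, C.pow_q_units] at h1
  exact h1

theorem h_mem_Ce {r : ℕ} (hr : r < chevF4.nroots) {p : Kˣ × Kˣ} :
    C.h p ∈ Ce C r ↔ F4Data.tab.chi (F := K) r (C.cvec p) = 1 := by
  rw [mem_Ce C]
  constructor
  · intro h
    have e := C.h_conj_x hr p 1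
    rw [← h 1, mul_inv_cancel_right, mul_one] at e
    exact Units.ext (good_F4.x_inj hr e).symm
  · intro h y
    have e := C.h_conj_x hr p y
    rw [h, Units.val_one, one_mul] at e
    conv_lhs => rw [← e]
    group

theorem chi39 (p : Kˣ × Kˣ) :
    F4Data.tab.chi (F := K) 39 (C.cvec p) = (p.2 ^ 2 ^ m)⁻¹ * p.2 := by
  have h0 := cartAxes.1 (0 : Fin 4)
  have h1 := cartAxes.1 (1 : Fin 4)
  have h2 := cartAxes.1 (2 : Fin 4)
  have h3 := cartAxes.1 (3 : Fin 4)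
  simp only [show ((0 : Fin 4) : ℕ) = 0 from rfl, show ((1 : Fin 4) : ℕ) = 1 from rfl,
    show ((2 : Fin 4) : ℕ) = 2 from rfl, show ((3 : Fin 4) : ℕ) = 3 from rfl] at h0 h1 h2 h3
  rw [C.chi_eq, h0, h1, h2, h3]
  simp [zpow_ofNat]

theorem chi44 (p : Kˣ × Kˣ) : F4Data.tab.chi (F := K) 44 (C.cvec p) = p.1 ^ 2 ^ m := by
  have h0 := cartAxes.2 (0 : Fin 4)
  have h1 := cartAxes.2 (1 : Fin 4)
  have h2 := cartAxes.2 (2 : Fin 4)
  have h3 := cartAxes.2 (3 : Fin 4)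
  simp only [show ((0 : Fin 4) : ℕ) = 0 from rfl, show ((1 : Fin 4) : ℕ) = 1 from rfl,
    show ((2 : Fin 4) : ℕ) = 2 from rfl, show ((3 : Fin 4) : ℕ) = 3 from rfl] at h0 h1 h2 h3
  rw [C.chi_eq, h0, h1, h2, h3]
  simp [zpow_ofNat]

theorem mem_Ce39 {p : Kˣ × Kˣ} : C.h p ∈ Ce C 39 ↔ p.2 = 1 := by
  rw [h_mem_Ce C (by decide), chi39]
  refine ⟨fun h => C.units_pow_e_inj (inv_mul_eq_one.mp h), fun h => ?_⟩
  rw [h, one_pow, inv_one, one_mul]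

theorem mem_Ce44 {p : Kˣ × Kˣ} : C.h p ∈ Ce C 44 ↔ p.1 = 1 := by
  rw [h_mem_Ce C (by decide), chi44]
  refine ⟨fun h => ?_, fun h => by rw [h, one_pow]⟩
  have := C.units_pow_qq' p.1
  rw [h, one_pow] at this
  exact this.symm

theorem X_cent_aux (J : Fin C.Z.nJ) {r0 : ℕ}
    (h : ∀ r ∈ F4Tw.flips.getD J.val [], F4Data.tab.chkCommute 2 r r0 = true) :
    C.Z.XJ J ≤ Ce C r0 := by
  intro x hx
  have h2 := (Subgroup.mem_inf.mp hx).2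
  rw [C.flip_w J] at h2
  refine (show good_F4.US K {r | r ∈ F4Tw.flips.getD J.val []} ≤ Ce C r0 from
    (Subgroup.closure_le _).mpr fun g ⟨r, hr, t, e⟩ => ?_) h2
  rw [e, SetLike.mem_coe, mem_Ce C]
  intro y
  exact ((C.commute_of (h r hr) t y).eq).symm

theorem n_cent_aux (J : Fin C.Z.nJ) {r0 : ℕ} (hr : r0 < chevF4.nroots)
    (hX : C.Z.XJ J ≤ Ce C r0) (hw : F4Data.tab.wordT (F4Tw.words.getD J.val []) r0 = r0) :
    C.Z.n J ∈ Ce C r0 := by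
  obtain ⟨a, ha, v, hv, u, hu, e⟩ := (C.gen_data.exists_n J).choose_spec.2.2.2
  change a ∈ C.Z.XJ J at ha
  change v ∈ C.Z.XJ J at hv
  change u ∈ C.Z.XJ J at hu
  change C.Z.n J = a⁻¹ * (C.Z.n J * u * (C.Z.n J)⁻¹) * v⁻¹ at e
  obtain ⟨c, hc⟩ := C.Z.n_act J
  have hfix : good_F4.full.pw (C.Z.word J) ⟨r0, hr⟩ = (⟨r0, hr⟩ : Fin chevF4.nroots) := by
    refine Fin.ext ?_
    rw [good_F4.pw_apply, show (C.Z.word J).map Fin.val = F4Tw.words.getD J.val [] from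
      C.spec.map_word J]
    exact hw
  rw [e]
  refine mul_mem (mul_mem (inv_mem (hX ha)) ?_) (inv_mem (hX hv))
  rw [mem_Ce C]
  intro y
  obtain ⟨y', e'⟩ : ∃ y' : K, C.Z.n J * good_F4.full.x r0 y' * (C.Z.n J)⁻¹ =
      good_F4.full.x r0 y := by
    refine ⟨(((c ⟨r0, hr⟩)⁻¹ : Kˣ) : K) * y, ?_⟩
    have h1 := (hc ⟨r0, hr⟩).2.2.2 ((((c ⟨r0, hr⟩)⁻¹ : Kˣ) : K) * y)
    rw [hfix, ← mul_assoc (c _ : K), Units.mul_inv, one_mul] at h1
    exact h1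
  have hcomm := (mem_Ce C).mp (hX hu) y'
  rw [← e']
  calc C.Z.n J * good_F4.full.x r0 y' * (C.Z.n J)⁻¹ * (C.Z.n J * u * (C.Z.n J)⁻¹)
      = C.Z.n J * (good_F4.full.x r0 y' * u) * (C.Z.n J)⁻¹ := by group
    _ = C.Z.n J * (u * good_F4.full.x r0 y') * (C.Z.n J)⁻¹ := by rw [hcomm]
    _ = _ := by group

theorem chi_of_comm (J : Fin C.Z.nJ) {r : ℕ} (hr : r < chevF4.nroots)
    (hw : F4Data.tab.wordT (F4Tw.words.getD J.val []) r = negR chevF4 r) {p : Kˣ × Kˣ}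
    (h : C.Z.n J * C.h p * (C.Z.n J)⁻¹ = C.h p) :
    F4Data.tab.chi (F := K) r (C.cvec p) = 1 := by
  obtain ⟨c, hc⟩ := C.Z.n_act J
  have hneg : (good_F4.full.pw (C.Z.word J) ⟨r, hr⟩).val = negR chevF4 r := by
    rw [good_F4.pw_apply, show (C.Z.word J).map Fin.val = F4Tw.words.getD J.val [] from
      C.spec.map_word J]
    exact hw
  set n := C.Z.n J
  set χ : Kˣ := F4Data.tab.chi (F := K) r (C.cvec p) with hχ
  have e1 : n * good_F4.full.x r (χ : K) * n⁻¹ =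
      C.h p * (n * good_F4.full.x r 1 * n⁻¹) * (C.h p)⁻¹ := by
    calc n * good_F4.full.x r (χ : K) * n⁻¹
        = n * (C.h p * good_F4.full.x r 1 * (C.h p)⁻¹) * n⁻¹ := by
          rw [C.h_conj_x hr p 1, mul_one]
      _ = n * C.h p * n⁻¹ * (n * good_F4.full.x r 1 * n⁻¹) * (n * C.h p * n⁻¹)⁻¹ := by group
      _ = _ := by rw [h]
  have hh := (hc ⟨r, hr⟩).2.2.2
  rw [hh, hh, hneg, C.h_conj_x (Cert.negR_lt hr), good_F4.chi_negR hr, ← hχ] at e1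
  have e2 := good_F4.x_inj (Cert.negR_lt hr) e1
  rw [mul_one, mul_comm, mul_left_inj' (Units.ne_zero _)] at e2
  have e3 : χ = χ⁻¹ := Units.ext e2
  exact units_sq_inj C (by rw [pow_two]; exact mul_eq_one_iff_eq_inv.mpr e3)

theorem surj_aux (J : Fin C.Z.nJ) {r0 : ℕ} (hr : r0 < chevF4.nroots)
    (hn : C.Z.n J ∈ Ce C r0) (β γ : Kˣ →* Kˣ × Kˣ)
    (hB : ∀ p, C.h p ∈ Ce C r0 → ∃ u, β u = p)
    (hker : ∀ s, C.Z.n J * C.h (γ s) * (C.Z.n J)⁻¹ = C.h (γ s) → s = 1) :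
    ∀ z ∈ C.Z.H0, z ∈ Ce C r0 → ∃ t ∈ C.Z.H0, z = t * (C.Z.n J * t * (C.Z.n J)⁻¹)⁻¹ := by
  classical
  set n := C.Z.n J
  have mem : ∀ p, C.h p ∈ C.Z.H0 := fun p => by rw [C.H0_eq]; exact ⟨p, rfl⟩
  -- the difference map in coordinates
  have hf : ∀ s, ∃ u, C.h (β u) = C.h (γ s) * (n * C.h (γ s) * n⁻¹)⁻¹ := by
    intro s
    have h0 : C.h (γ s) * (n * C.h (γ s) * n⁻¹)⁻¹ ∈ C.h.range := by
      rw [← C.H0_eq]
      exact mul_mem (mem _) (inv_mem (C.Z.n_conj J _ (mem _)))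
    obtain ⟨p, hp⟩ := h0
    let A' : GL chevF4.Idx K := C.h (γ s) * (n * C.h (γ s) * n⁻¹)⁻¹
    have hc : A' ∈ Ce C r0 := delta_cent_aux hr hn (mem _)
    obtain ⟨u, rfl⟩ := hB p (by rw [hp]; exact hc)
    exact ⟨u, hp⟩
  choose f hf using hf
  have hinj : Function.Injective f := by
    intro s s' e
    have h1 := (hf s).symm.trans (e ▸ hf s')
    refine mul_inv_eq_one.mp (hker _ ?_)
    have hco : ∀ a b : Kˣ × Kˣ, Commute (C.h a) (n * C.h b * n⁻¹) := fun a b =>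
      H0_comm C (mem a) (C.Z.n_conj J _ (mem b))
    have h2 : n * C.h (γ s) * n⁻¹ = C.h (γ s) * (C.h (γ s'))⁻¹ * (n * C.h (γ s') * n⁻¹) := by
      calc n * C.h (γ s) * n⁻¹
          = (C.h (γ s) * (n * C.h (γ s) * n⁻¹)⁻¹)⁻¹ * C.h (γ s) := by group
        _ = (n * C.h (γ s') * n⁻¹) * ((C.h (γ s'))⁻¹ * C.h (γ s)) := by rw [h1]; group
        _ = (n * C.h (γ s') * n⁻¹) * C.h ((γ s')⁻¹ * γ s) := by rw [map_mul, map_inv]
        _ = C.h ((γ s')⁻¹ * γ s) * (n * C.h (γ s') * n⁻¹) := (hco _ _).eq.symm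
        _ = _ := by rw [mul_comm (γ s')⁻¹, map_mul, map_inv]
    rw [map_mul, map_inv, map_mul, map_inv]
    calc n * (C.h (γ s) * (C.h (γ s'))⁻¹) * n⁻¹
        = n * C.h (γ s) * n⁻¹ * (n * C.h (γ s') * n⁻¹)⁻¹ := by group
      _ = _ := by rw [h2]; group
  intro z hz hzc
  rw [C.H0_eq] at hz
  obtain ⟨p, rfl⟩ := hz
  obtain ⟨u, rfl⟩ := hB p hzc
  obtain ⟨s, hs⟩ := (Finite.injective_iff_surjective.mp hinj) u
  exact ⟨C.h (γ s), mem _, by rw [← hf, hs]⟩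

/-- The pair orbit. -/
noncomputable def axis0 (C : F4Tw.Ctx K m) : Axis C C.K0 where
  r0 := 39
  lt := by decide
  X_cent := X_cent_aux C C.K0 chkAxes.1
  n_cent := n_cent_aux C C.K0 (by decide) (X_cent_aux C C.K0 chkAxes.1) chkAxes.2.2.1
  surj := surj_aux C C.K0 (by decide)
    (n_cent_aux C C.K0 (by decide) (X_cent_aux C C.K0 chkAxes.1) chkAxes.2.2.1)
    (MonoidHom.inl Kˣ Kˣ) (MonoidHom.inr Kˣ Kˣ)
    (fun p hp => ⟨p.1, Prod.ext rfl ((mem_Ce39 C).mp hp).symm⟩)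
    (fun s hs => by
      have h := chi_of_comm C C.K0 (r := 24) (by decide) chkAxes.2.2.2.2.1 hs
      rw [(C.chi_vals' _).1] at h
      simpa [F4Tw.Ctx.chP] using h)

/-- The quadruple orbit. -/
noncomputable def axis1 (C : F4Tw.Ctx K m) : Axis C C.K1 where
  r0 := 44
  lt := by decide
  X_cent := X_cent_aux C C.K1 chkAxes.2.1
  n_cent := n_cent_aux C C.K1 (by decide) (X_cent_aux C C.K1 chkAxes.2.1) chkAxes.2.2.2.1
  surj := surj_aux C C.K1 (by decide)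
    (n_cent_aux C C.K1 (by decide) (X_cent_aux C C.K1 chkAxes.2.1) chkAxes.2.2.2.1)
    (MonoidHom.inr Kˣ Kˣ) (MonoidHom.inl Kˣ Kˣ)
    (fun p hp => ⟨p.2, Prod.ext ((mem_Ce44 C).mp hp).symm rfl⟩)
    (fun s hs => by
      have h := chi_of_comm C C.K1 (r := 28) (by decide) chkAxes.2.2.2.2.2 hs
      rw [(C.chi_vals' _).2.2] at h
      refine C.units_pow_e1_inj ?_
      simpa [F4Tw.Ctx.chZ] using h)

theorem not_fix0 {p : Kˣ × Kˣ} (h : C.chP p ≠ 1) :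
    ∃ x ∈ C.Z.XJ C.K0, C.h p * x ≠ x * C.h p := by
  refine ⟨_, C.eP_mem 1, fun e => h ?_⟩
  have e1 := C.eH_eP p 1
  have e2 : C.eH p * C.eP 1 * (C.eH p)⁻¹ = C.eP 1 := by
    refine Subtype.ext ?_
    show C.h p * C.U 0 1 0 * (C.h p)⁻¹ = C.U 0 1 0
    rw [show C.h p * C.U 0 1 0 = C.U 0 1 0 * C.h p from e, mul_inv_cancel_right]
  rw [e2, mul_one] at e1
  exact Units.ext (C.eP_inj e1).symm

theorem not_fix1 {p : Kˣ × Kˣ} (h : C.chZ p ≠ 1) :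
    ∃ x ∈ C.Z.XJ C.K1, C.h p * x ≠ x * C.h p := by
  refine ⟨_, C.eQ_mem 0 1, fun e => h ?_⟩
  have e1 := C.eH_eZ p 1
  have e2 : C.eH p * C.eQ 0 1 * (C.eH p)⁻¹ = C.eQ 0 1 := by
    refine Subtype.ext ?_
    show C.h p * C.U 1 0 1 * (C.h p)⁻¹ = C.U 1 0 1
    rw [show C.h p * C.U 1 0 1 = C.U 1 0 1 * C.h p from e, mul_inv_cancel_right]
  rw [e2, mul_one] at e1
  exact Units.ext (C.eQ_inj e1).2.symm

theorem h_mem_H0 (p : Kˣ × Kˣ) : C.h p ∈ C.Z.H0 := by rw [C.H0_eq]; exact ⟨p, rfl⟩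

theorem move0 {g : GL chevF4.Idx K} {u s : Kˣ} (hc : C.Z.CellT C.w0 g (C.h (u, s)))
    (hne : C.chP (u, s) ≠ 1) (u' : Kˣ) : C.Z.CellT C.w0 g (C.h (u', s)) := by
  obtain ⟨y, hy, v, hv, w, hw, e⟩ := hc
  obtain ⟨a, ha, p, hp, r, hr, b, hb, rfl, rfl⟩ := split_cell C C.K0 hv hw
  refine (axis0 C).move_cell hy ha hp (h_mem_H0 C _) hr hb e (Or.inl (not_fix0 C hne))
    (h_mem_H0 C _) ?_
  show C.h (u', s) * (C.h (u, s))⁻¹ ∈ Ce C 39
  rw [← map_inv, ← map_mul, mem_Ce39]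
  exact mul_inv_cancel s

theorem move1 {g : GL chevF4.Idx K} {u s : Kˣ} (hc : C.Z.CellT C.w0 g (C.h (u, s)))
    (hne : C.chZ (u, s) ≠ 1) (s' : Kˣ) : C.Z.CellT C.w0 g (C.h (u, s')) := by
  obtain ⟨y, hy, v, hv, w, hw, e⟩ := hc
  obtain ⟨a, ha, p, hp, r, hr, b, hb, rfl, rfl⟩ := split_cell C C.K1 hv hw
  refine (axis1 C).move_cell hy ha hp (h_mem_H0 C _) hr hb e (Or.inl (not_fix1 C hne))
    (h_mem_H0 C _) ?_
  show C.h (u, s') * (C.h (u, s))⁻¹ ∈ Ce C 44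
  rw [← map_inv, ← map_mul, mem_Ce44]
  exact mul_inv_cancel u

end CfsgLib.ReeSq
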