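import Cfsg.Agent.ReeSq.Axes

/-!
`²F₄(q)`, `q ≥ 8`: a nontrivial element has a conjugate in the big cell with arbitrary torus part.
-/

set_option autoImplicit false
set_option linter.style.haveILetI false
set_option linter.unusedSectionVars false

namespace CfsgLib.ReeSq

open Cfsg.Lie Matrix CfsgLib.Chev CfsgLib.Chev.Tab
open scoped MatrixGroups

variable {K : Type*} [Field K] [Fintype K] {m : ℕ} (C : F4Tw.Ctx K m)
include C

theorem card_bound (hm : 1 ≤ m) :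
    Nat.card C.Z.G1 < 2 * (Nat.card C.Z.U1 * Nat.card C.Z.H0 * Nat.card C.Z.U1) := by
  rw [C.card_group, C.card_U1, C.card_torus]
  have h8 : 8 ≤ 2 ^ (2 * m + 1) := by
    calc 8 = 2 ^ 3 := by norm_num
      _ ≤ _ := Nat.pow_le_pow_right (by norm_num) (by omega)
  generalize 2 ^ (2 * m + 1) = q at h8
  have key : (q ^ 3 + 1) * (q ^ 4 - 1) * (q ^ 6 + 1) < 2 * ((q - 1) * q ^ 12) := by
    obtain ⟨a, ha⟩ : ∃ a, q = a + 1 := ⟨q - 1, by omega⟩
    have h4 : q ^ 4 - 1 ≤ q ^ 4 := Nat.sub_le _ _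
    have h1 : (q ^ 3 + 1) * (q ^ 4 - 1) * (q ^ 6 + 1) ≤ (q ^ 3 + 1) * q ^ 4 * (q ^ 6 + 1) := by
      gcongr
    refine lt_of_le_of_lt h1 ?_
    subst ha
    rw [Nat.add_sub_cancel]
    set Q := a + 1 with hQ
    have p : ∀ i j : ℕ, i ≤ j → Q ^ i ≤ Q ^ j := fun i j h => Nat.pow_le_pow_right (by omega) h
    have e : (Q ^ 3 + 1) * Q ^ 4 * (Q ^ 6 + 1) = Q ^ 13 + Q ^ 10 + Q ^ 7 + Q ^ 4 := by ring
    have e2 : 2 * (a * Q ^ 12) + 2 * Q ^ 12 = 2 * Q ^ 13 := by rw [hQ]; ring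
    have h12 : 8 * Q ^ 12 ≤ Q ^ 13 := by
      rw [pow_succ Q 12, mul_comm 8]; exact Nat.mul_le_mul_left _ h8
    have := p 10 12 (by omega)
    have := p 7 12 (by omega)
    have := p 4 12 (by omega)
    have : 0 < Q ^ 12 := pow_pos (by omega) _
    omega
  calc q ^ 12 * (q - 1) * (q ^ 3 + 1) * (q ^ 4 - 1) * (q ^ 6 + 1)
      = q ^ 12 * (q - 1) * ((q ^ 3 + 1) * (q ^ 4 - 1) * (q ^ 6 + 1)) := by ring
    _ < q ^ 12 * (q - 1) * (2 * ((q - 1) * q ^ 12)) :=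
        Nat.mul_lt_mul_of_pos_left key (Nat.mul_pos (pow_pos (by omega) _) (by omega))
    _ = _ := by ring

theorem exists_cell (hm : 1 ≤ m) {g : GL chevF4.Idx K} (hg : g ∈ C.Z.G1) :
    ∃ p, C.Z.CellT C.w0 g (C.h p) := by
  obtain ⟨h, hh, hc⟩ := C.Z.exists_cellT (L_neg C) (card_bound C hm) hg
  rw [C.H0_eq] at hh
  obtain ⟨p, rfl⟩ := hh
  exact ⟨p, hc⟩

theorem units_card (hm : 1 ≤ m) [DecidableEq Kˣ] [Fintype Kˣ] : 7 ≤ (Finset.univ : Finset Kˣ).card := by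
  rw [Finset.card_univ, ← Nat.card_eq_fintype_card, C.card_units]
  have : 2 ^ 3 ≤ 2 ^ (2 * m + 1) := Nat.pow_le_pow_right (by norm_num) (by omega)
  omega

theorem exists_avoid_two (hm : 1 ≤ m) {f g : Kˣ → Kˣ} (hf : Function.Injective f)
    (hg : Function.Injective g) (a b : Kˣ) : ∃ u, f u ≠ a ∧ g u ≠ b := by
  classical
  by_contra h
  push Not at h
  have hsub : (Finset.univ : Finset Kˣ) ⊆
      Finset.univ.filter (fun u => f u = a) ∪ Finset.univ.filter fun u => g u = b := fun u _ => by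
    by_cases h1 : f u = a
    · exact Finset.mem_union_left _ (by simp [h1])
    · exact Finset.mem_union_right _ (by simp [h u h1])
  have h1 : ∀ (f : Kˣ → Kˣ), Function.Injective f → ∀ a,
      (Finset.univ.filter fun u => f u = a).card ≤ 1 := fun f hf a =>
    Finset.card_le_one.mpr fun x hx y hy => hf (by
      simp only [Finset.mem_filter, Finset.mem_univ, true_and] at hx hy; rw [hx, hy])
  have := (Finset.card_le_card hsub).trans (Finset.card_union_le _ _)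
  have := h1 f hf a
  have := h1 g hg b
  have := units_card C hm
  omega

theorem sq_inj : Function.Injective fun u : Kˣ => u ^ 2 := fun a b e =>
  mul_inv_eq_one.mp (units_sq_inj C (by
    simp only at e
    rw [mul_pow, inv_pow, e, mul_inv_cancel]))

theorem pow_e1_inj : Function.Injective fun u : Kˣ => u ^ (2 ^ m + 1) := fun a b e =>
  mul_inv_eq_one.mp (C.units_pow_e1_inj (by
    simp only at e
    rw [mul_pow, inv_pow, e, mul_inv_cancel]))

theorem exists_s (hm : 1 ≤ m) (u : Kˣ) : ∃ s, C.chP (u, s) ≠ 1 := by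
  obtain ⟨s, hs, -⟩ := exists_avoid_two C hm (f := id) (g := id) Function.injective_id
    Function.injective_id (u ^ 2) (u ^ 2)
  exact ⟨s, fun h => hs (inv_mul_eq_one.mp h)⟩

theorem exists_u (hm : 1 ≤ m) (s : Kˣ) : ∃ u, C.chP (u, s) ≠ 1 := by
  obtain ⟨u, hu, -⟩ := exists_avoid_two C hm (sq_inj C) (sq_inj C) s s
  exact ⟨u, fun h => hu (inv_mul_eq_one.mp h).symm⟩

theorem both_one {p : Kˣ × Kˣ} (h0 : C.chP p = 1) (h1 : C.chZ p = 1) : p = 1 := by
  have e0 : p.2 = p.1 ^ 2 := inv_mul_eq_one.mp h0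
  have e1 : p.2 = p.1 ^ (2 ^ m + 1) := mul_inv_eq_one.mp h1
  rw [e0, pow_two, pow_succ, mul_left_inj] at e1
  have hu := C.units_pow_e_inj e1.symm
  exact Prod.ext hu (by rw [e0, hu, one_pow]; rfl)

/-- A nontrivial element has a cell whose torus part moves the pair. -/
theorem exists_start (hm : 1 ≤ m) {g : GL chevF4.Idx K} (hg : g ∈ C.Z.G1) (hg1 : g ≠ 1) :
    ∃ p, C.Z.CellT C.w0 g (C.h p) ∧ C.chP p ≠ 1 := by
  by_contra hcon
  push Not at hcon
  have hdeg : ∀ y ∈ C.Z.G1, ∀ v ∈ C.Z.V1 C.w0, ∀ w ∈ C.Z.U1, ∀ p, y * g * y⁻¹ = v * C.h p * w →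
      p = 1 ∧ ∀ J, v ∈ C.Z.radV C.w0 J ∧ w ∈ C.Z.radT J := by
    intro y hy v hv w hw p e
    obtain ⟨u, s⟩ := p
    have hc : C.Z.CellT C.w0 g (C.h (u, s)) := ⟨y, hy, v, hv, w, hw, e⟩
    have hP : C.chP (u, s) = 1 := hcon _ hc
    have hZ : C.chZ (u, s) = 1 := by
      by_contra h
      obtain ⟨s', hs'⟩ := exists_s C hm u
      exact hs' (hcon _ (move1 C hc h s'))
    refine ⟨both_one C hP hZ, fun J => ?_⟩
    obtain ⟨a, ha, p, hp, r, hr, b, hb, rfl, rfl⟩ := split_cell C J hv hw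
    by_cases h : p ≠ 1 ∨ r ≠ 1
    · exfalso
      rcases C.K_cases J with rfl | rfl
      · obtain ⟨u', hu'⟩ := exists_u C hm s
        refine hu' (hcon _ ((axis0 C).move_cell hy ha hp (h_mem_H0 C _) hr hb e (Or.inr h)
          (h_mem_H0 C _) ?_))
        show C.h (u', s) * (C.h (u, s))⁻¹ ∈ Ce C 39
        rw [← map_inv, ← map_mul, mem_Ce39]
        exact mul_inv_cancel s
      · obtain ⟨s', hs'⟩ := exists_s C hm u
        refine hs' (hcon _ ((axis1 C).move_cell hy ha hp (h_mem_H0 C _) hr hb e (Or.inr h)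
          (h_mem_H0 C _) ?_))
        show C.h (u, s') * (C.h (u, s))⁻¹ ∈ Ce C 44
        rw [← map_inv, ← map_mul, mem_Ce44]
        exact mul_inv_cancel u
    · push Not at h
      rw [h.1, h.2, mul_one, one_mul]
      exact ⟨ha, hb⟩
  obtain ⟨p, y, hy, v, hv, w, hw, e⟩ := exists_cell C hm hg
  obtain ⟨rfl, -⟩ := hdeg y hy v hv w hw p e
  have key : ∀ L : List (Fin C.Z.nJ),
      C.Z.nT L * v * (C.Z.nT L)⁻¹ ∈ C.Z.V1 C.w0 ∧ C.Z.nT L * w * (C.Z.nT L)⁻¹ ∈ C.Z.U1 := by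
    intro L
    induction L with
    | nil => simpa [Good.Twisted.nT] using ⟨hv, hw⟩
    | cons J L ih =>
      obtain ⟨-, h⟩ := hdeg (C.Z.nT L * y) (mul_mem (C.Z.nT_mem L) hy) _ ih.1 _ ih.2 1 (by
        rw [show C.Z.nT L * y * g * (C.Z.nT L * y)⁻¹ =
          C.Z.nT L * (y * g * y⁻¹) * (C.Z.nT L)⁻¹ by group, e, map_one]
        group)
      refine ⟨C.Z.radV_le_V1 _ J ?_, C.Z.radT_le_U1 J ?_⟩
      · rw [C.Z.nT_cons]
        convert Lev_conj_radV C (n_mem_Lev C J) (h J).1 using 1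
        group
      · rw [C.Z.nT_cons]
        convert Lev_conj_radT C (n_mem_Lev C J) (h J).2 using 1
        group
  obtain ⟨k1, k2⟩ := key C.w0
  have hw1 : w = 1 := by
    have h1 : C.Z.nT C.w0 * w * (C.Z.nT C.w0)⁻¹ ∈ C.Z.V1 C.w0 := by
      rw [C.Z.mem_V1]
      simpa [mul_assoc] using hw
    have := C.Z.inB_inf_V1 C.w0_neg (C.Z.inB_U1 k2) h1
    rwa [conj_eq_one_iff] at this
  have hv1 : v = 1 := by
    have h1 : v ∈ C.Z.U1 := by
      have := C.Z.mem_V1.mp k1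
      simpa [mul_assoc] using this
    exact C.Z.inB_inf_V1 C.w0_neg (C.Z.inB_U1 h1) hv
  rw [hv1, hw1, map_one, one_mul, mul_one, conj_eq_one_iff] at e
  exact hg1 e

/-- Prescribed torus part. -/
theorem exists_prescribed (hm : 1 ≤ m) {g : GL chevF4.Idx K} (hg : g ∈ C.Z.G1) (hg1 : g ≠ 1)
    (p : Kˣ × Kˣ) : C.Z.CellT C.w0 g (C.h p) := by
  obtain ⟨⟨u, s⟩, hc, hne⟩ := exists_start C hm hg hg1
  obtain ⟨u', hu1, hu2⟩ := exists_avoid_two C hm (pow_e1_inj C) (sq_inj C) s p.2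
  have h1 := move0 C hc hne u'
  have h2 := move1 C h1 (fun h => hu1 (mul_inv_eq_one.mp h).symm) p.2
  exact move0 C h2 (fun h => hu2 (inv_mul_eq_one.mp h).symm) p.1

end CfsgLib.ReeSq
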