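import Cfsg.Agent.ReeSq.Axes

/-!
`²F₄(q)`: normal forms in the subgroup generated by the root groups of the quadruple orbit.
-/

set_option autoImplicit false
set_option linter.style.haveILetI false
set_option linter.unusedSectionVars false

namespace CfsgLib.ReeSq

open Cfsg.Lie Matrix CfsgLib.Chev CfsgLib.Chev.Tab
open scoped MatrixGroups

variable {K : Type*} [Field K] [Fintype K] {m : ℕ} (C : F4Tw.Ctx K m)

/-- The rank one group of the quadruple orbit. -/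
noncomputable def L1 (C : F4Tw.Ctx K m) : Subgroup (GL chevF4.Idx K) :=
  Subgroup.closure ((C.Z.XJ C.K1 : Set (GL chevF4.Idx K)) ∪ {C.Z.n C.K1})

include C

theorem X1_le : C.Z.XJ C.K1 ≤ L1 C := fun _ h => Subgroup.subset_closure (Or.inl h)

theorem n1_mem : C.Z.n C.K1 ∈ L1 C := Subgroup.subset_closure (Or.inr rfl)

theorem n1_Xconj {x : GL chevF4.Idx K} (hx : x ∈ C.Z.XJ C.K1) :
    C.Z.n C.K1 * x * (C.Z.n C.K1)⁻¹ ∈ L1 C :=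
  mul_mem (mul_mem (n1_mem C) (X1_le C hx)) (inv_mem (n1_mem C))

theorem L1_le_Lev : L1 C ≤ Lev C C.K1 :=
  (Subgroup.closure_le _).mpr (Set.union_subset (XJ_le_Lev C C.K1)
    (Set.singleton_subset_iff.mpr (n_mem_Lev C C.K1)))

theorem L1_le_G1 : L1 C ≤ C.Z.G1 := fun _ h => ((mem_Lev C).mp (L1_le_Lev C h)).1.1

theorem L1_le_Ce : L1 C ≤ Ce C 44 :=
  (Subgroup.closure_le _).mpr (Set.union_subset (axis1 C).X_cent
    (Set.singleton_subset_iff.mpr (axis1 C).n_cent))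

theorem conj_X1 {t x : GL chevF4.Idx K} (ht : t ∈ C.Z.H0) (hx : x ∈ C.Z.XJ C.K1) :
    t * x * t⁻¹ ∈ C.Z.XJ C.K1 :=
  C.Z.H0_conj_US (fun _ hs => hs.1) ht hx

theorem exists_n1 : ∃ a ∈ C.Z.XJ C.K1, ∃ v ∈ C.Z.XJ C.K1, ∃ u ∈ C.Z.XJ C.K1,
    C.Z.n C.K1 = a⁻¹ * (C.Z.n C.K1 * u * (C.Z.n C.K1)⁻¹) * v⁻¹ :=
  (C.gen_data.exists_n (C.K1 : Fin F4Tw.orbs.length)).choose_spec.2.2.2

theorem n1_torus {t : GL chevF4.Idx K} (ht : t ∈ C.Z.H0) :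
    t * C.Z.n C.K1 * t⁻¹ ∈ L1 C := by
  obtain ⟨a, ha, v, hv, u, hu, e⟩ := exists_n1 C
  set n := C.Z.n C.K1 with hn
  have h1 : t * (n * u * n⁻¹) * t⁻¹ =
      n * ((n⁻¹ * t * n) * u * (n⁻¹ * t * n)⁻¹) * n⁻¹ := by group
  rw [show t * n * t⁻¹ = (t * a⁻¹ * t⁻¹) * (t * (n * u * n⁻¹) * t⁻¹) * (t * v⁻¹ * t⁻¹) by
    nth_rewrite 1 [e]; group, h1]
  exact mul_mem (mul_mem (X1_le C (conj_X1 C ht (inv_mem ha)))
    (n1_Xconj C (conj_X1 C (n_conj_inv C C.K1 ht) hu))) (X1_le C (conj_X1 C ht (inv_mem hv)))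

/-- The torus of the rank one group. -/
theorem S_mem (s : Kˣ) : C.h (1, s) ∈ L1 C := by
  obtain ⟨t, ht, e⟩ := (axis1 C).surj _ (h_mem_H0 C (1, s))
    (show C.h (1, s) ∈ Ce C 44 from (mem_Ce44 C).mpr rfl)
  set n := C.Z.n C.K1 with hn
  rw [e, show t * (n * t * n⁻¹)⁻¹ = t * n * t⁻¹ * n⁻¹ by group]
  exact mul_mem (n1_torus C ht) (inv_mem (n1_mem C))

theorem H0_L1 {t : GL chevF4.Idx K} (ht : t ∈ C.Z.H0) (htL : t ∈ L1 C) :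
    ∃ s, t = C.h (1, s) := by
  rw [C.H0_eq] at ht
  obtain ⟨⟨u, s⟩, rfl⟩ := ht
  obtain rfl : u = 1 := (mem_Ce44 C).mp (L1_le_Ce C htL)
  exact ⟨s, rfl⟩

theorem L1_rank_one {x : GL chevF4.Idx K} (hx : x ∈ C.Z.XJ C.K1) (hx1 : x ≠ 1) :
    ∃ a ∈ C.Z.XJ C.K1, ∃ k, k ∈ C.Z.H0 ∧ k ∈ L1 C ∧ ∃ b ∈ C.Z.XJ C.K1,
      C.Z.n C.K1 * x * (C.Z.n C.K1)⁻¹ = a * k * C.Z.n C.K1 * b := by
  obtain ⟨a, ha, k, hk, b, hb, e⟩ := (C.gen_data.orbit (C.K1 : Fin F4Tw.orbs.length)).rank_one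
    (C.Z.n_fix C.K1) (C.Z.n_mono C.K1) (C.Z.n_act C.K1) hx hx1
  change a ∈ C.Z.XJ C.K1 at ha
  change b ∈ C.Z.XJ C.K1 at hb
  change C.Z.n C.K1 * x * (C.Z.n C.K1)⁻¹ = a * k * C.Z.n C.K1 * b at e
  refine ⟨a, ha, k, by rw [C.H0_eq]; exact C.mem_fix_diag.mp hk, ?_, b, hb, e⟩
  have : k = a⁻¹ * (C.Z.n C.K1 * x * (C.Z.n C.K1)⁻¹) * b⁻¹ * (C.Z.n C.K1)⁻¹ := by rw [e]; group
  rw [this]
  exact mul_mem (mul_mem (mul_mem (inv_mem (X1_le C ha)) (n1_Xconj C hx))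
    (inv_mem (X1_le C hb))) (inv_mem (n1_mem C))

theorem n1_sq_mem : C.Z.n C.K1 * C.Z.n C.K1 ∈ C.Z.H0 ∧ C.Z.n C.K1 * C.Z.n C.K1 ∈ L1 C :=
  ⟨C.Z.n_sq _, mul_mem (n1_mem C) (n1_mem C)⟩

/-- The two kinds of elements. -/
def Form (C : F4Tw.Ctx K m) (g : GL chevF4.Idx K) : Prop :=
  ∃ x ∈ C.Z.XJ C.K1, ∃ t, (t ∈ C.Z.H0 ∧ t ∈ L1 C) ∧
    (g = x * t ∨ ∃ x' ∈ C.Z.XJ C.K1, g = x * t * C.Z.n C.K1 * x')

theorem Form.X_mul {g x : GL chevF4.Idx K} (hx : x ∈ C.Z.XJ C.K1) (h : Form C g) :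
    Form C (x * g) := by
  obtain ⟨y, hy, t, ht, rfl | ⟨x', hx', rfl⟩⟩ := h
  · exact ⟨x * y, mul_mem hx hy, t, ht, Or.inl (by group)⟩
  · exact ⟨x * y, mul_mem hx hy, t, ht, Or.inr ⟨x', hx', by group⟩⟩

theorem Form.T_mul {g t : GL chevF4.Idx K} (ht : t ∈ C.Z.H0) (htL : t ∈ L1 C) (h : Form C g) :
    Form C (t * g) := by
  obtain ⟨y, hy, s, ⟨hs, hsL⟩, rfl | ⟨x', hx', rfl⟩⟩ := h
  · exact ⟨t * y * t⁻¹, conj_X1 C ht hy, t * s, ⟨mul_mem ht hs, mul_mem htL hsL⟩,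
      Or.inl (by group)⟩
  · exact ⟨t * y * t⁻¹, conj_X1 C ht hy, t * s, ⟨mul_mem ht hs, mul_mem htL hsL⟩,
      Or.inr ⟨x', hx', by group⟩⟩

theorem Form.n_mul {g : GL chevF4.Idx K} (h : Form C g) : Form C (C.Z.n C.K1 * g) := by
  set n := C.Z.n C.K1 with hn
  obtain ⟨hQ, hQL⟩ := n1_sq_mem C
  rw [← hn] at hQ hQL
  have hc : ∀ t, t ∈ C.Z.H0 ∧ t ∈ L1 C → n * t * n⁻¹ ∈ C.Z.H0 ∧ n * t * n⁻¹ ∈ L1 C := fun t ht =>
    ⟨C.Z.n_conj _ _ ht.1, mul_mem (mul_mem (n1_mem C) ht.2) (inv_mem (n1_mem C))⟩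
  obtain ⟨x, hx, t, ht, rfl | ⟨x', hx', rfl⟩⟩ := h
  · refine ⟨1, one_mem _, n * t * n⁻¹, hc t ht, Or.inr ⟨t⁻¹ * x * t, ?_, by rw [← hn]; group⟩⟩
    simpa using conj_X1 C (inv_mem ht.1) hx
  · have hT : n * t * n⁻¹ * (n * n) ∈ C.Z.H0 ∧ n * t * n⁻¹ * (n * n) ∈ L1 C :=
      ⟨mul_mem (hc t ht).1 hQ, mul_mem (hc t ht).2 hQL⟩
    by_cases hx1 : x = 1
    · subst hx1
      refine ⟨(n * t * n⁻¹ * (n * n)) * x' * (n * t * n⁻¹ * (n * n))⁻¹, conj_X1 C hT.1 hx', _, hT,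
        Or.inl (by rw [← hn]; group)⟩
    · obtain ⟨a, ha, k, hk, hkL, b, hb, e⟩ := L1_rank_one C hx hx1
      rw [← hn] at e
      set T := n * t * n⁻¹ * (n * n) with hTdef
      refine ⟨a, ha, k * (n * T * n⁻¹), ⟨mul_mem hk (hc T hT).1, mul_mem hkL (hc T hT).2⟩,
        Or.inr ⟨T⁻¹ * b * T * x', mul_mem ?_ hx', ?_⟩⟩
      · simpa using conj_X1 C (inv_mem hT.1) hb
      · calc n * (x * t * n * x') = n * x * n⁻¹ * T * x' := by rw [hTdef]; group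
          _ = a * k * n * b * T * x' := by rw [e]
          _ = _ := by rw [← hn]; group

/-- The Bruhat decomposition of the rank one group. -/
theorem form_of_mem {g : GL chevF4.Idx K} (hg : g ∈ L1 C) : Form C g := by
  suffices h : ∀ c, Form C c → Form C (g * c) by
    simpa using h 1 ⟨1, one_mem _, 1, ⟨one_mem _, one_mem _⟩, Or.inl (by group)⟩
  induction hg using Subgroup.closure_induction'' with
  | mem y hy =>
    rcases hy with hy | rfl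
    · exact fun c hc => Form.X_mul C hy hc
    · exact fun c hc => Form.n_mul C hc
  | inv_mem y hy =>
    rcases hy with hy | rfl
    · exact fun c hc => Form.X_mul C (inv_mem hy) hc
    · intro c hc
      obtain ⟨hQ, hQL⟩ := n1_sq_mem C
      have := Form.T_mul C (inv_mem hQ) (inv_mem hQL) (Form.n_mul C hc)
      convert this using 1
      group
  | one => simp
  | mul a b _ _ ha hb => exact fun c hc => by rw [mul_assoc]; exact ha _ (hb c hc)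

theorem X1_cases {x : GL chevF4.Idx K} (hx : x ∈ C.Z.XJ C.K1) : ∃ a b, x = C.U 1 a b := by
  obtain ⟨a, b, e⟩ := C.mem_XJ.mp hx
  exact ⟨a, b, e⟩

/-- The torus of the rank one group acts without fixed points. -/
theorem S_fix {s : Kˣ} {x : GL chevF4.Idx K} (hx : x ∈ C.Z.XJ C.K1) (hx1 : x ≠ 1)
    (h : C.h (1, s) * x = x * C.h (1, s)) : s = 1 := by
  obtain ⟨a, b, rfl⟩ := X1_cases C hx
  have e : C.eH (1, s) * C.eQ a b * (C.eH (1, s))⁻¹ = C.eQ a b := by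
    refine Subtype.ext ?_
    show C.h (1, s) * C.U 1 a b * (C.h (1, s))⁻¹ = C.U 1 a b
    rw [h, mul_inv_cancel_right]
  obtain ⟨b', e1, e2⟩ := C.eH_eQ (1, s) a b
  rw [e] at e1
  obtain ⟨ea, rfl⟩ := C.eQ_inj e1
  by_cases ha : a = 0
  · subst ha
    have hb : b ≠ 0 := by
      rintro rfl
      exact hx1 (congrArg Subtype.val C.eQ_zero)
    simp only [mul_zero, zero_pow (Nat.succ_ne_zero _), zero_add] at e2
    have h1 : C.chZ (1, s) = 1 := Units.ext (by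
      rw [Units.val_one]; exact (mul_eq_right₀ hb).mp e2)
    simpa [F4Tw.Ctx.chZ] using h1
  · have h1 : C.chQ (1, s) = 1 := Units.ext (by
      rw [Units.val_one]; exact (mul_eq_right₀ ha).mp ea.symm)
    simp only [F4Tw.Ctx.chQ, inv_one, mul_one] at h1
    rw [inv_mul_eq_one, ← pow_two] at h1
    exact C.units_pow_e_inj (sq_inj' C h1)
where
  sq_inj' (C : F4Tw.Ctx K m) {a b : Kˣ} (e : a ^ 2 = b ^ 2) : a = b :=
    mul_inv_eq_one.mp (units_sq_inj C (by rw [mul_pow, inv_pow, e, mul_inv_cancel]))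

theorem n1_not_borel {x : GL chevF4.Idx K} (hx : x ∈ C.Z.XJ C.K1) (hx1 : x ≠ 1) :
    C.Z.n C.K1 * x * (C.Z.n C.K1)⁻¹ ∉ chevF4.borelSubgroup K :=
  (C.gen_data.orbit (C.K1 : Fin F4Tw.orbs.length)).conj_not_borel (C.Z.n_act C.K1)
    (Subgroup.mem_inf.mp hx).2 hx1

theorem n1_notMem : C.Z.n C.K1 ∉ chevF4.borelSubgroup K := by
  intro h
  obtain ⟨x, hx, hx1⟩ := C.xNontrivial C.K1
  exact n1_not_borel C hx hx1
    (mul_mem (mul_mem h (C.Z.U1_le_borel (C.Z.XJ_le_U1 _ hx))) (inv_mem h))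

theorem H0_borel {t : GL chevF4.Idx K} (ht : t ∈ C.Z.H0) : t ∈ chevF4.borelSubgroup K :=
  C.Z.H0_le_borel ht

theorem X1_borel {x : GL chevF4.Idx K} (hx : x ∈ C.Z.XJ C.K1) : x ∈ chevF4.borelSubgroup K :=
  C.Z.U1_le_borel (C.Z.XJ_le_U1 _ hx)

end CfsgLib.ReeSq
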