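import Cfsg.Agent.ReeSq.Suz
import Cfsg.Agent.Chev.CentTorus
import Cfsg.Agent.OreChev.Moves
import Mathlib.RingTheory.IntegralDomain

/-!
`²F₄(q)`, `q ≥ 8`: there is an element of odd order whose class squares to everything but the
identity.
-/

set_option autoImplicit false
set_option linter.style.haveILetI false
set_option linter.unusedSectionVars false

namespace CfsgLib.ReeSq

open Cfsg.Lie Matrix CfsgLib.Chev CfsgLib.Chev.Tab
open scoped MatrixGroups

/-- Twice the exponent of a root on the central torus element is `θ A + B`. -/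
def expA (r : ℕ) : ℤ :=
  2 * (F4Data.tab.cart 0 r + F4Data.tab.cart 1 r + F4Data.tab.cart 2 r)

/-- The second coefficient. -/
def expB (r : ℕ) : ℤ :=
  F4Data.tab.cart 1 r + 2 * F4Data.tab.cart 2 r + 2 * F4Data.tab.cart 3 r

theorem chkExp : ∀ r : Fin 48, 24 ≤ r.val →
    (r.val ∈ ([27, 25, 28, 30] : List ℕ) ∧ expA r = 0 ∧ expB r = 0) ∨
      (r.val ∉ ([27, 25, 28, 30] : List ℕ) ∧
        (expA r * expA r - 2 * (expB r * expB r)).natAbs ∈ ([2, 4, 8] : List ℕ)) := by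
  decide +kernel

theorem chkPosFlip : ∀ r : Fin 48, r.val ∈ ([27, 25, 28, 30] : List ℕ) → 24 ≤ r.val := by
  decide +kernel

variable {K : Type*} [Field K] [Fintype K] {m : ℕ} (C : F4Tw.Ctx K m)

/-- The central parameter. -/
def zp (_C : F4Tw.Ctx K m) (u : Kˣ) : Kˣ × Kˣ := (u, u ^ (2 ^ m + 1))

include C

theorem chi_zp_sq (u : Kˣ) (r : ℕ) :
    (F4Data.tab.chi (F := K) r (C.cvec (zp C u))) ^ 2 = (u ^ 2 ^ m) ^ expA r * u ^ expB r := by
  have hq : u ^ ((2 * 2 ^ m * 2 ^ m : ℕ) : ℤ) = u := by rw [zpow_natCast, C.pow_q_units]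
  rw [C.chi_eq, ← zpow_natCast (n := 2), zp]
  simp only [expA, expB]
  generalize F4Data.tab.cart 0 r = a
  generalize F4Data.tab.cart 1 r = b
  generalize F4Data.tab.cart 2 r = c
  generalize F4Data.tab.cart 3 r = d
  simp only [← zpow_natCast, ← _root_.zpow_mul, ← _root_.zpow_add]
  set T : ℤ := ((2 ^ m : ℕ) : ℤ) with hT
  have hq' : u ^ (2 * T * T * b) = u ^ b := by
    rw [_root_.zpow_mul, show 2 * T * T = ((2 * 2 ^ m * 2 ^ m : ℕ) : ℤ) by push_cast [hT]; ring, hq]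
  rw [show (T * a + ((2 ^ m + 1 : ℕ) : ℤ) * T * b + ((2 ^ m + 1 : ℕ) : ℤ) * c + d) * ((2 : ℕ) : ℤ) =
      T * (2 * (a + b + c)) + (2 * c + 2 * d) + 2 * T * T * b by push_cast [hT]; ring,
    show T * (2 * (a + b + c)) + (b + 2 * c + 2 * d) = T * (2 * (a + b + c)) + (2 * c + 2 * d) + b
      by ring, _root_.zpow_add, _root_.zpow_add (n := b), hq']

theorem chi_zp_flip (u : Kˣ) {r : ℕ} (hr : r ∈ ([27, 25, 28, 30] : List ℕ)) :
    F4Data.tab.chi (F := K) r (C.cvec (zp C u)) = 1 := by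
  have hlt : r < 48 := by
    simp only [List.mem_cons, List.not_mem_nil, or_false] at hr
    omega
  rcases chkExp ⟨r, hlt⟩ (chkPosFlip ⟨r, hlt⟩ hr) with ⟨-, hA, hB⟩ | ⟨h, -⟩
  · refine units_sq_inj C ?_
    rw [chi_zp_sq]
    simp only at hA hB
    rw [hA, hB, _root_.zpow_zero, _root_.zpow_zero, one_mul]
  · exact absurd hr h

theorem five_inj {a : Kˣ} (h : a ^ 5 = 1) : a = 1 := by
  have hq : ¬ 5 ∣ Nat.card Kˣ := by
    rw [C.card_units, show 2 ^ (2 * m + 1) = 2 * 4 ^ m by rw [pow_succ', pow_mul]; norm_num]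
    intro hd
    have h4 : 1 ≤ 4 ^ m := Nat.one_le_pow _ _ (by norm_num)
    have : ∀ k : ℕ, 4 ^ k % 5 = 1 ∨ 4 ^ k % 5 = 4 := fun k => by
      induction k with
      | zero => simp
      | succ k ih => rw [pow_succ, Nat.mul_mod]; rcases ih with h | h <;> simp [h]
    have := this m
    omega
  rcases (Nat.dvd_prime (by norm_num : Nat.Prime 5)).1 (orderOf_dvd_of_pow_eq_one h) with e | e
  · exact orderOf_eq_one_iff.mp e
  · exact absurd (e ▸ orderOf_dvd_natCard a) hq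

theorem chi_zp_ne {u : Kˣ} (hu : u ≠ 1) {r : ℕ} (hr : IsPos chevF4 r)
    (hnf : r ∉ ([27, 25, 28, 30] : List ℕ)) :
    F4Data.tab.chi (F := K) r (C.cvec (zp C u)) ≠ 1 := by
  intro h
  have hlt : r < 48 := hr.1
  have h24 : 24 ≤ r := by
    have h1 := hr.2
    change 48 ≤ 2 * r at h1
    omega
  rcases chkExp ⟨r, hlt⟩ h24 with ⟨h', -⟩ | ⟨-, hN⟩
  · exact absurd h' hnf
  simp only at hN
  have e := chi_zp_sq C u r
  rw [h, one_pow] at e
  set A := expA r
  set B := expB r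
  set T : ℤ := ((2 ^ m : ℕ) : ℤ) with hT
  have h1 : u ^ (T * A + B) = 1 := by
    rw [_root_.zpow_add, _root_.zpow_mul, hT, zpow_natCast]; exact e.symm
  have hq : ∀ k : ℤ, u ^ (2 * T * T * k) = u ^ k := fun k => by
    rw [_root_.zpow_mul, show 2 * T * T = ((2 * 2 ^ m * 2 ^ m : ℕ) : ℤ) by push_cast [hT]; ring,
      zpow_natCast, C.pow_q_units]
  have h2 : u ^ (A * A - 2 * (B * B)) = 1 := by
    have e3 : u ^ ((T * A + B) * (2 * T * A - 2 * B)) = 1 := by
      rw [_root_.zpow_mul, h1, _root_.one_zpow]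
    rwa [show (T * A + B) * (2 * T * A - 2 * B) = 2 * T * T * (A * A) + -(2 * (B * B)) by ring,
      _root_.zpow_add, hq, ← _root_.zpow_add, ← sub_eq_add_neg] at e3
  set n := (A * A - 2 * (B * B)).natAbs with hn
  have h3 : u ^ n = 1 := by
    rcases Int.natAbs_eq (A * A - 2 * (B * B)) with h' | h' <;> rw [h', ← hn] at h2 <;>
      simpa using h2
  simp only [List.mem_cons, List.not_mem_nil, or_false] at hN
  rcases hN with h' | h' | h' <;> rw [h'] at h3
  · exact hu (units_sq_inj C h3)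
  · rw [show 4 = 2 * 2 from rfl, pow_mul] at h3
    exact hu (units_sq_inj C (units_sq_inj C h3))
  · rw [show 8 = 2 * 2 * 2 from rfl, pow_mul, pow_mul] at h3
    exact hu (units_sq_inj C (units_sq_inj C (units_sq_inj C h3)))

theorem commute_flip (u : Kˣ) {r : ℕ} (hr : r < chevF4.nroots)
    (h : F4Data.tab.chi (F := K) r (C.cvec (zp C u)) = 1) (t : K) :
    Commute (C.h (zp C u)) (good_F4.full.x r t) := by
  have e := C.h_conj_x hr (zp C u) t
  rw [h, Units.val_one, one_mul] at e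
  exact (mul_inv_eq_iff_eq_mul.mp e)

theorem zp_comm_US (u : Kˣ) {S : Set ℕ} (hS : ∀ r ∈ S, r < chevF4.nroots ∧
    F4Data.tab.chi (F := K) r (C.cvec (zp C u)) = 1) {x : GL chevF4.Idx K}
    (hx : x ∈ good_F4.US K S) : Commute (C.h (zp C u)) x := by
  have : good_F4.US K S ≤ Subgroup.centralizer {C.h (zp C u)} :=
    (Subgroup.closure_le _).mpr fun g ⟨r, hr, t, e⟩ =>
      Subgroup.mem_centralizer_singleton_iff.mpr
        (e ▸ (commute_flip C u (hS r hr).1 (hS r hr).2 t).eq.symm)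
  exact (Subgroup.mem_centralizer_singleton_iff.mp (this hx)).symm

theorem zp_comm_X (u : Kˣ) {x : GL chevF4.Idx K} (hx : x ∈ C.Z.XJ C.K1) :
    Commute (C.h (zp C u)) x := by
  refine zp_comm_US C u (fun r hr => ?_) (Subgroup.mem_inf.mp hx).2
  have h' := hr
  rw [C.flip_w] at h'
  exact ⟨hr.1, chi_zp_flip C u h'⟩

theorem zp_comm_L1 (u : Kˣ) {g : GL chevF4.Idx K} (hg : g ∈ L1 C) :
    Commute (C.h (zp C u)) g := by
  set z := C.h (zp C u) with hz
  set n := C.Z.n C.K1 with hn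
  -- `z` commutes with the opposite root group
  have hneg : ∀ x ∈ C.Z.XJ C.K1, Commute z (n⁻¹ * x * n) := by
    intro x hx
    have h := good_F4.conj_x_act
      (S' := {r | ∃ h : r < chevF4.nroots, (negF ⟨r, h⟩).val ∈ flipSet (C.Z.w C.K1)})
      (good_F4.rootAct_inv (C.Z.n_mono C.K1) (C.Z.n_act C.K1)) (fun s hs => ?_)
      (Subgroup.mem_inf.mp hx).2
    · rw [inv_inv] at h
      refine zp_comm_US C u (fun r hr => ?_) h
      obtain ⟨hr1, hr2⟩ := hr
      rw [C.flip_w] at hr2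
      refine ⟨hr1, ?_⟩
      have h3 := chi_zp_flip C u hr2
      rw [show (negF ⟨r, hr1⟩).val = negR chevF4 r from rfl, good_F4.chi_negR hr1,
        inv_eq_one] at h3
      exact h3
    · refine ⟨hs.1, Fin.isLt _, ?_⟩
      rw [show ((good_F4.full.pw (C.Z.word C.K1))⁻¹ : Equiv.Perm _) = C.Z.w C.K1 from
        inv_eq_of_mul_eq_one_right (C.Z.invol C.K1)]
      exact C.Z.neg_w_mem_flip (s := ⟨s, hs.1⟩) hs
  -- so the defect commutes with the root group
  have hzn : Commute z n := by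
    set d := n * z * n⁻¹ * z⁻¹ with hd
    have hd0 : d ∈ C.Z.H0 := mul_mem (C.Z.n_conj _ _ (h_mem_H0 C _)) (inv_mem (h_mem_H0 C _))
    have hdL : d ∈ L1 C := by
      rw [show d = n * (z * n⁻¹ * z⁻¹) by rw [hd]; group]
      have := inv_mem (n1_torus C (h_mem_H0 C (zp C u)))
      refine mul_mem (n1_mem C) ?_
      convert this using 1
      rw [← hn, ← hz]; group
    obtain ⟨s, hs⟩ := H0_L1 C hd0 hdL
    obtain ⟨x, hx, hx1⟩ := C.xNontrivial C.K1
    have hc : Commute (n * z * n⁻¹) x := by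
      have h := (hneg x hx).eq
      show n * z * n⁻¹ * x = x * (n * z * n⁻¹)
      calc n * z * n⁻¹ * x = n * (z * (n⁻¹ * x * n)) * n⁻¹ := by group
        _ = n * (n⁻¹ * x * n * z) * n⁻¹ := by rw [h]
        _ = _ := by group
    have hdx : Commute d x := hc.mul_left (zp_comm_X C u hx).inv_left
    rw [hs] at hdx
    have hs1 := S_fix C hx hx1 hdx.eq
    rw [hs1, show C.h (1, 1) = 1 from map_one C.h, hd] at hs
    show z * n = n * z
    calc z * n = (n * z * n⁻¹ * z⁻¹) * (z * n) := by rw [hs, one_mul]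
      _ = _ := by group
  have : L1 C ≤ Subgroup.centralizer {z} :=
    (Subgroup.closure_le _).mpr (Set.union_subset
      (fun x hx => Subgroup.mem_centralizer_singleton_iff.mpr (zp_comm_X C u hx).eq.symm)
      (Set.singleton_subset_iff.mpr (Subgroup.mem_centralizer_singleton_iff.mpr hzn.eq.symm)))
  exact (Subgroup.mem_centralizer_singleton_iff.mp (this hg)).symm

theorem N_negPerm : good_F4.full.RootAct (N C) (negPerm chevF4) := by
  have h := C.Z.nT_act C.w0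
  convert h using 1
  · rfl
  refine Equiv.ext fun s => Fin.ext ?_
  rw [Good.Twisted.pwT, good_F4.pw_apply]
  show negR chevF4 s.val = F4Data.tab.wordT ((C.w0.flatMap fun J => toFins chevF4.rank
    (F4Tw.words.getD J.val [])).map Fin.val) s.val
  rw [show (C.w0.flatMap fun J => toFins chevF4.rank (F4Tw.words.getD J.val [])).map
    Fin.val = [0, 3, 1, 2, 1, 2, 0, 3, 1, 2, 1, 2, 0, 3, 1, 2, 1, 2, 0, 3, 1, 2, 1, 2] from rfl]
  exact (F4Tw.negWord s.val s.isLt).symm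

theorem rad_fix (c : Fin chevF4.rank → Kˣ)
    (hc : ∀ r, IsPos chevF4 r → r ∉ ([27, 25, 28, 30] : List ℕ) →
      F4Data.tab.chi (F := K) r c ≠ 1) {y : GL chevF4.Idx K} (hy : y ∈ C.Z.radT C.K1)
    (h : F4Data.tab.hT K c * y = y * F4Data.tab.hT K c) : y = 1 := by
  have hy' := (Subgroup.mem_inf.mp hy).2
  rw [good_F4.rad_eq] at hy'
  have hclosed : good_F4.US K {r | IsPos chevF4 r ∧
      ¬ F4Data.tab.InJ (Fin.val '' {i | i ∈ C.Z.orb C.K1}) r} ≤
      good_F4.US K {r | IsPos chevF4 r} := good_F4.US_mono fun r hr => hr.1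
  have h' : F4Data.tab.hT K c * y * (F4Data.tab.hT K c)⁻¹ = y := by rw [h]; group
  -- the part of `y` in the root group of the orbit is trivial
  have h1 := (good_F4.fixed_US good_F4.closed_pos c (hclosed hy')).mp h'
  have h2 : y ∈ good_F4.US K (flipSet (C.Z.w C.K1)) := by
    refine good_F4.US_mono (fun s hs => ?_) h1
    by_contra hf
    refine hc s hs.1 (fun hm => hf ?_) hs.2
    rw [C.flip_w]
    exact hm
  have hb : y ∈ C.Z.XJ C.K1 := Subgroup.mem_inf.mpr ⟨(Subgroup.mem_inf.mp hy).1, h2⟩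
  have hk : y ∈ good_F4.US K (keepSet (C.Z.w C.K1)) := by
    refine good_F4.US_mono (fun r hr => ?_) hy'
    rcases (pos_eq_keep_union_flip (C.Z.w C.K1)).subset hr.1 with h | h
    · exact h
    · exact absurd (inJ_flip C h) hr.2
  exact ((good_F4.split_unique (C.Z.n_act C.K1) hk (one_mem _) (one_mem _)
    (Subgroup.mem_inf.mp hb).2 (by rw [mul_one, one_mul])).1)

theorem exists_class (hm : 1 ≤ m) :
    ∃ x ∈ C.Z.G1, Odd (orderOf x) ∧ ∀ g ∈ C.Z.G1, g ≠ 1 →
      ∃ u ∈ C.Z.G1, ∃ v ∈ C.Z.G1, g = u * x * u⁻¹ * (v * x * v⁻¹) := by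
  obtain ⟨l, hl⟩ := exists_unit C hm
  obtain ⟨⟨s, hs⟩, hord, hcov⟩ := exists_five C hm
  set z := C.h (zp C l) with hz
  have hz0 : z ∈ C.Z.H0 := h_mem_H0 C _
  have hzs : Commute z s := zp_comm_L1 C l hs
  have hs5 : s ^ 5 = 1 := by
    have := pow_orderOf_eq_one (⟨s, hs⟩ : ↥(L1 C))
    rw [hord] at this
    exact congrArg Subtype.val this
  have hz5 : (z * s) ^ 5 = C.h ((zp C l) ^ 5) := by
    rw [hzs.mul_pow, hs5, mul_one, map_pow]
  have hxL : z * s ∈ Lev C C.K1 := mul_mem (H0_le_Lev C _ hz0) (L1_le_Lev C hs)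
  have hxG : z * s ∈ C.Z.G1 := ((mem_Lev C).mp hxL).1.1
  have hodd : Odd (orderOf (z * s)) := by
    refine Odd.of_dvd_nat (m := orderOf (z * s)) (n := 5 * Nat.card (Kˣ × Kˣ)) ?_
      (orderOf_dvd_of_pow_eq_one ?_)
    · rw [Nat.card_prod, C.card_units]
      have : Odd (2 ^ (2 * m + 1) - 1) :=
        Nat.Even.sub_odd (Nat.one_le_two_pow) (by simp [Nat.even_pow]) odd_one
      exact Odd.mul (by decide) (this.mul this)
    · rw [pow_mul, hz5, ← map_pow, pow_card_eq_one', map_one]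
  have hne : ∀ r, IsPos chevF4 r → r ∉ ([27, 25, 28, 30] : List ℕ) →
      F4Data.tab.chi (F := K) r (C.cvec ((zp C l) ^ 5)) ≠ 1 := by
    intro r hr hnf h
    rw [map_pow, map_pow] at h
    exact chi_zp_ne C hl hr hnf (five_inj C h)
  -- no fixed points on the two radicals
  have hfT : ∀ y ∈ C.Z.radT C.K1, z * s * y = y * (z * s) → y = 1 := by
    intro y hy h
    refine rad_fix C _ hne hy ?_
    have := (show Commute (z * s) y from h).pow_left 5
    rw [hz5] at this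
    exact this.eq
  have hfV : ∀ y ∈ C.Z.radV C.w0 C.K1, z * s * y = y * (z * s) → y = 1 := by
    intro y hy h
    have hy' := C.Z.mem_radV.mp hy
    change (N C)⁻¹ * y * N C ∈ _ at hy'
    have h5 := (show Commute (z * s) y from h).pow_left 5
    rw [hz5] at h5
    have e : (N C)⁻¹ * C.h ((zp C l) ^ 5) * N C = F4Data.tab.hT K (C.cvec ((zp C l) ^ 5))⁻¹ := by
      have h' := good_F4.hT_conj_longest (N_negPerm C) (C.Z.nT_mono C.w0)
        (C.cvec ((zp C l) ^ 5))⁻¹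
      rw [inv_inv] at h'
      show (N C)⁻¹ * F4Data.tab.hT K (C.cvec ((zp C l) ^ 5)) * N C = _
      rw [← h']
      group
    have := rad_fix C _ (fun r hr hnf h => hne r hr hnf (inv_eq_one.mp ((map_inv _ _).symm.trans h))) hy' (by
      rw [← e]
      calc (N C)⁻¹ * C.h ((zp C l) ^ 5) * N C * ((N C)⁻¹ * y * N C)
          = (N C)⁻¹ * (C.h ((zp C l) ^ 5) * y) * N C := by group
        _ = _ := by rw [h5.eq]; group)
    calc y = N C * ((N C)⁻¹ * y * N C) * (N C)⁻¹ := by group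
      _ = 1 := by rw [this]; group
  refine ⟨z * s, hxG, hodd, fun g hg hg1 => ?_⟩
  obtain ⟨c, hc⟩ := exists_unit C hm
  obtain ⟨y, hy, v, hv, w, hw, e⟩ :=
    exists_prescribed C hm hg hg1 (zp C l * zp C l * (1, c))
  obtain ⟨a, ha, p, hp, r, hr, b, hb, rfl, rfl⟩ := split_cell C C.K1 hv hw
  have hpL : p ∈ L1 C := by
    have := n1_Xconj C (C.Z.mem_XN.mp hp)
    convert this using 1
    group
  set m0 : GL chevF4.Idx K := p * C.h (1, c) * r with hm0
  have hm0L : m0 ∈ L1 C := mul_mem (mul_mem hpL (S_mem C c)) (X1_le C hr)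
  have hm01 : (⟨m0, hm0L⟩ : ↥(L1 C)) ≠ 1 := by
    intro h
    have h' : p * C.h (1, c) * r = 1 := congrArg Subtype.val h
    have hp1 : p = 1 := by
      refine C.Z.inB_inf_V1 C.w0_neg ⟨r⁻¹, inv_mem (C.Z.XJ_le_U1 _ hr), (C.h (1, c))⁻¹,
        inv_mem (h_mem_H0 C _), ?_⟩ (XN_le_V1 C hp)
      calc p = p * C.h (1, c) * r * r⁻¹ * (C.h (1, c))⁻¹ := by group
        _ = _ := by rw [h', one_mul]
    rw [hp1, one_mul] at h'
    have hd : r ∈ chevF4.posUnipotent K ⊓ chevF4.diagonalSubgroup K :=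
      Subgroup.mem_inf.mpr ⟨(C.Z.XJ_le_U1 _ hr).2,
        by rw [eq_inv_of_mul_eq_one_right h']; exact inv_mem (C.Z.H0_diag (h_mem_H0 C _))⟩
    rw [good_F4.pos_inf_diagonal, Subgroup.mem_bot] at hd
    rw [hd, mul_one, ← map_one C.h] at h'
    exact hc (congrArg Prod.snd (C.h_inj h'))
  obtain ⟨⟨P, hP⟩, ⟨R, hR⟩, ePR⟩ := hcov ⟨m0, hm0L⟩ hm01
  have ePR' : m0 = P * s * P⁻¹ * (R * s * R⁻¹) := congrArg Subtype.val ePR
  have hc1 := (zp_comm_L1 C l hpL).eq
  have hmid : p * C.h (zp C l * zp C l * (1, c)) * r =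
      P * (z * s) * P⁻¹ * (R * (z * s) * R⁻¹) := by
    have hPz := (zp_comm_L1 C l hP).eq
    have hRz := (zp_comm_L1 C l hR).eq
    have hsz := hzs.eq
    rw [map_mul, map_mul, ← hz]
    rw [← hz] at hc1 hPz hRz
    have e1 : P * (z * s) * P⁻¹ = z * (P * s * P⁻¹) := by
      simp only [← mul_assoc, hPz]
    have e2 : R * (z * s) * R⁻¹ = z * (R * s * R⁻¹) := by
      simp only [← mul_assoc, hRz]
    have hPs : Commute z (P * s * P⁻¹) :=
      zp_comm_L1 C l (mul_mem (mul_mem hP hs) (inv_mem hP))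
    rw [e1, e2]
    have hzp : Commute (z * z) p := Commute.mul_left hc1 hc1
    calc p * (z * z * C.h (1, c)) * r = z * z * m0 := by
          rw [hm0, ← mul_assoc p (z * z), ← hzp.eq]
          group
      _ = z * (z * (P * s * P⁻¹)) * (R * s * R⁻¹) := by rw [ePR']; group
      _ = z * ((P * s * P⁻¹) * z) * (R * s * R⁻¹) := by rw [hPs.eq]
      _ = _ := by group
  have hPL := L1_le_Lev C hP
  have hRL := L1_le_Lev C hR
  set x1 := P * (z * s) * P⁻¹ with hx1
  set x2 := R * (z * s) * R⁻¹ with hx2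
  have hx1L : x1 ∈ Lev C C.K1 := mul_mem (mul_mem hPL hxL) (inv_mem hPL)
  have hx2L : x2 ∈ Lev C C.K1 := mul_mem (mul_mem hRL hxL) (inv_mem hRL)
  have htr : ∀ {V : Subgroup (GL chevF4.Idx K)} {Q : GL chevF4.Idx K},
      (∀ y ∈ V, Q⁻¹ * y * Q ∈ V) → (∀ y ∈ V, z * s * y = y * (z * s) → y = 1) →
      ∀ y ∈ V, Q * (z * s) * Q⁻¹ * y = y * (Q * (z * s) * Q⁻¹) → y = 1 := by
    intro V Q hQ hf y hy h
    have := hf _ (hQ y hy) (by
      calc z * s * (Q⁻¹ * y * Q) = Q⁻¹ * (Q * (z * s) * Q⁻¹ * y) * Q := by group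
        _ = _ := by rw [h]; group)
    calc y = Q * (Q⁻¹ * y * Q) * Q⁻¹ := by group
      _ = 1 := by rw [this]; group
  obtain ⟨r1, hr1, er1⟩ := exists_conj_mul_left (C.Z.radV C.w0 C.K1)
    (fun y hy => Lev_conj_radV C hx1L hy)
    (htr (fun y hy => by simpa using Lev_conj_radV C (inv_mem hPL) hy) hfV) ha
  obtain ⟨r2, hr2, er2⟩ := exists_conj_mul_right (C.Z.radT C.K1)
    (fun y hy => by have := Lev_conj_radT C (inv_mem hx2L) hy; rwa [inv_inv] at this)
    (htr (fun y hy => by simpa using Lev_conj_radT C (inv_mem hRL) hy) hfT) hb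
  refine ⟨y⁻¹ * (r1 * P), mul_mem (inv_mem hy) (mul_mem ?_ (L1_le_G1 C hP)),
    y⁻¹ * (r2 * R), mul_mem (inv_mem hy) (mul_mem ?_ (L1_le_G1 C hR)), ?_⟩
  · have h1 := C.Z.U1_le (C.Z.radT_le_U1 _ (C.Z.mem_radV.mp hr1))
    have := mul_mem (mul_mem (C.Z.nT_mem C.w0) h1) (inv_mem (C.Z.nT_mem C.w0))
    simpa [mul_assoc] using this
  · exact C.Z.U1_le (C.Z.radT_le_U1 _ hr2)
  calc g = y⁻¹ * (y * g * y⁻¹) * y := by group
    _ = y⁻¹ * (a * (p * C.h (zp C l * zp C l * (1, c)) * r) * b) * y := by rw [e]; group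
    _ = y⁻¹ * ((a * x1) * (x2 * b)) * y := by rw [hmid]; group
    _ = _ := by rw [er1, er2, hx1]; group

end CfsgLib.ReeSq
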