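import Cfsg.Agent.Chev.F4TwOut
import Cfsg.Agent.OreChev.TwistedCell
import Cfsg.Agent.Chev.Levi

/-!
`²F₄(q)`: changing the torus part of an element of the big cell inside a rank one group.

If `p h r` is a product of an element of the negative root group, a torus element and an element of
the positive root group of an orbit, and it is not the trivial case, then a conjugate by an element
of the rank one group has an arbitrary torus part in the coset of `h` by the torus of the rank one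
group.  Only the Bruhat decomposition in the rank one group is used.
-/

set_option autoImplicit false
set_option linter.style.haveILetI false
set_option linter.unusedSectionVars false

namespace CfsgLib.ReeSq

open Cfsg.Lie Matrix CfsgLib.Chev CfsgLib.Chev.Tab
open scoped MatrixGroups

variable {K : Type*} [Field K] [Fintype K] {m : ℕ} (C : F4Tw.Ctx K m)

/-- The representative of the longest element. -/
noncomputable def N (C : F4Tw.Ctx K m) : GL chevF4.Idx K := C.Z.nT C.w0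

/-- The parabolic subgroup of an orbit. -/
noncomputable def Par (C : F4Tw.Ctx K m) (J : Fin C.Z.nJ) : Subgroup (GL chevF4.Idx K) :=
  chevF4.parabolicSubgroup K (Fin.val '' {i | i ∈ C.Z.orb J})

/-- The elements of the group normalising both radicals of an orbit. -/
noncomputable def Lev (C : F4Tw.Ctx K m) (J : Fin C.Z.nJ) : Subgroup (GL chevF4.Idx K) :=
  C.Z.G1 ⊓ Par C J ⊓ (Par C J).comap (MulAut.conj (N C)⁻¹).toMonoidHom

include C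

theorem L_neg : ∀ s, IsPos chevF4 s.val → ¬ IsPos chevF4 (C.Z.pwT C.w0 s).val :=
  fun s hs h => (C.w0_neg.sign s).mp h hs

theorem H0_comm {a b : GL chevF4.Idx K} (ha : a ∈ C.Z.H0) (hb : b ∈ C.Z.H0) : Commute a b := by
  rw [C.H0_eq] at ha hb
  obtain ⟨p, rfl⟩ := ha
  obtain ⟨p', rfl⟩ := hb
  show C.h p * C.h p' = C.h p' * C.h p
  rw [← map_mul, ← map_mul, mul_comm]

theorem n_conj_inv (J : Fin C.Z.nJ) {h : GL chevF4.Idx K} (hh : h ∈ C.Z.H0) :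
    (C.Z.n J)⁻¹ * h * C.Z.n J ∈ C.Z.H0 := by
  have := mul_mem (mul_mem (inv_mem (C.Z.n_sq J)) (C.Z.n_conj J h hh)) (C.Z.n_sq J)
  convert this using 1
  group

theorem N_mem : N C ∈ C.Z.G1 := C.Z.nT_mem _

theorem N_conj_inv {h : GL chevF4.Idx K} (hh : h ∈ C.Z.H0) :
    (N C)⁻¹ * h * N C ∈ C.Z.H0 := by
  have hsq : N C * N C ∈ C.Z.H0 := C.Z.nT_sq C.w0_neg
  have := mul_mem (mul_mem (inv_mem hsq) (C.Z.nT_H0 C.w0 hh : N C * h * (N C)⁻¹ ∈ C.Z.H0)) hsq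
  convert this using 1
  simp only [N]
  group

theorem diag_Par (J : Fin C.Z.nJ) : chevF4.diagonalSubgroup K ≤ Par C J := by
  intro g hg
  rw [Par, ← good_F4.rad_sup_levi]
  exact Subgroup.mem_sup_right (Subgroup.mem_sup_left hg)

theorem x_mem_Par {J : Fin C.Z.nJ} {r : ℕ}
    (h : F4Data.tab.InJ (Fin.val '' {i | i ∈ C.Z.orb J}) r) (t : K) :
    good_F4.full.x r t ∈ Par C J := by
  rw [Par, ← good_F4.rad_sup_levi]
  exact Subgroup.mem_sup_right (good_F4.levi_x_mem h t)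

theorem inJ_flip {J : Fin C.Z.nJ} {r : ℕ} (hr : r ∈ flipSet (C.Z.w J)) :
    F4Data.tab.InJ (Fin.val '' {i | i ∈ C.Z.orb J}) r := by
  have hlt := hr.1
  refine ⟨hlt, fun i hi => ?_⟩
  exact ((C.Z.mem_flip_w (s := ⟨r, hlt⟩)).mp hr).2 i fun h => hi ⟨i, h, rfl⟩

theorem n_mem_Par (J : Fin C.Z.nJ) : C.Z.n J ∈ Par C J := by
  have hnw : good_F4.full.nw K (C.Z.word J) ∈ Par C J := list_prod_mem fun x hx => by
    obtain ⟨i, hi, rfl⟩ := List.mem_map.mp hx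
    exact good_F4.ns_mem_parabolic ⟨i, C.spec.word_mem J i hi, rfl⟩
  have hd := C.gen_data.act_diag (J := J) (good_F4.nw_mem_monomial _) (C.Z.n_mono J)
    (good_F4.rootAct_nw _) (C.Z.n_act J)
  have := mul_mem hnw (diag_Par C J hd)
  convert this using 1
  show C.Z.n J = good_F4.full.nw K (C.Z.word J) * ((good_F4.full.nw K (C.Z.word J))⁻¹ * C.Z.n J)
  group

theorem mem_Lev {J : Fin C.Z.nJ} {y : GL chevF4.Idx K} :
    y ∈ Lev C J ↔ (y ∈ C.Z.G1 ∧ y ∈ Par C J) ∧ (N C)⁻¹ * y * N C ∈ Par C J := by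
  simp [Lev]

theorem H0_le_Lev (J : Fin C.Z.nJ) : C.Z.H0 ≤ Lev C J := fun _ hh =>
  (mem_Lev C).mpr ⟨⟨C.Z.H0_le hh, diag_Par C J (C.Z.H0_diag hh)⟩,
    diag_Par C J (C.Z.H0_diag (N_conj_inv C hh))⟩

theorem XJ_le_Lev (J : Fin C.Z.nJ) : C.Z.XJ J ≤ Lev C J := by
  intro x hx
  refine (mem_Lev C).mpr ⟨⟨C.Z.X_le J hx, ?_⟩, ?_⟩
  · exact (show good_F4.US K (flipSet (C.Z.w J)) ≤ Par C J from
      (Subgroup.closure_le _).mpr fun g ⟨r, hr, t, e⟩ => e ▸ x_mem_Par C (inJ_flip C hr) t)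
      (Subgroup.mem_inf.mp hx).2
  · have := good_F4.conj_x_act
      (S' := {r | F4Data.tab.InJ (Fin.val '' {i | i ∈ C.Z.orb J}) r})
      (good_F4.rootAct_inv (C.Z.nT_mono C.w0) (C.Z.nT_act C.w0)) (fun r hr => ⟨hr.1, ?_⟩)
      (Subgroup.mem_inf.mp hx).2
    · rw [inv_inv] at this
      exact (show good_F4.US K {r | F4Data.tab.InJ (Fin.val '' {i | i ∈ C.Z.orb J}) r} ≤ Par C J from
        (Subgroup.closure_le _).mpr fun g ⟨r, hr, t, e⟩ => e ▸ x_mem_Par C hr t) this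
    · have hneg : ∀ s, C.Z.pwT C.w0 s = negF s := fun s => by
        refine Fin.ext ?_
        rw [Good.Twisted.pwT, good_F4.pw_apply]
        show F4Data.tab.wordT ((C.w0.flatMap fun J => toFins chevF4.rank
          (F4Tw.words.getD J.val [])).map Fin.val) s.val = negR chevF4 s.val
        rw [show (C.w0.flatMap fun J => toFins chevF4.rank (F4Tw.words.getD J.val [])).map
          Fin.val = [0, 3, 1, 2, 1, 2, 0, 3, 1, 2, 1, 2, 0, 3, 1, 2, 1, 2, 0, 3, 1, 2, 1, 2]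
          from rfl]
        exact F4Tw.negWord s.val s.isLt
      rw [show (C.Z.pwT C.w0)⁻¹ = C.Z.pwT C.w0 from inv_eq_of_mul_eq_one_right C.w0_neg.sq, hneg]
      exact good_F4.inJ_negR (inJ_flip C hr)

theorem n_mem_Lev (J : Fin C.Z.nJ) : C.Z.n J ∈ Lev C J := by
  refine (mem_Lev C).mpr ⟨⟨C.Z.n_mem J, n_mem_Par C J⟩, ?_⟩
  have hact : good_F4.full.RootAct ((N C)⁻¹ * C.Z.n J * N C) (C.Z.w J) := by
    have := good_F4.rootAct_mul (good_F4.rootAct_mul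
      (good_F4.rootAct_inv (C.Z.nT_mono C.w0) (C.Z.nT_act C.w0)) (C.Z.n_act J))
      (C.Z.nT_act C.w0)
    convert this using 1
    · rfl
    show C.Z.w J = (C.Z.pwT C.w0)⁻¹ * C.Z.w J * C.Z.pwT C.w0
    rw [mul_assoc, ← C.w0_neg.central, inv_mul_cancel_left]
  have hd := C.gen_data.act_diag (J := J) (C.Z.n_mono J)
    (mul_mem (mul_mem (inv_mem (C.Z.nT_mono C.w0)) (C.Z.n_mono J)) (C.Z.nT_mono C.w0))
    (C.Z.n_act J) hact
  have := mul_mem (n_mem_Par C J) (diag_Par C J hd)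
  convert this using 1
  group
  rfl

theorem Lev_conj_radT {J : Fin C.Z.nJ} {y a : GL chevF4.Idx K} (hy : y ∈ Lev C J)
    (ha : a ∈ C.Z.radT J) : y * a * y⁻¹ ∈ C.Z.radT J :=
  C.Z.parabolic_conj_radT (C.Z.le_fix ((mem_Lev C).mp hy).1.1) ((mem_Lev C).mp hy).1.2 ha

theorem Lev_conj_radV {J : Fin C.Z.nJ} {y a : GL chevF4.Idx K} (hy : y ∈ Lev C J)
    (ha : a ∈ C.Z.radV C.w0 J) : y * a * y⁻¹ ∈ C.Z.radV C.w0 J :=
  C.Z.parabolic_conj_radV (C.Z.le_fix ((mem_Lev C).mp hy).1.1) ((mem_Lev C).mp hy).2 ha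

/-- Conjugation by `n⁻¹ N` stabilises the root group of an orbit. -/
theorem M_conj {J : Fin C.Z.nJ} {x : GL chevF4.Idx K} (hx : x ∈ C.Z.XJ J) :
    ((C.Z.n J)⁻¹ * N C) * x * ((C.Z.n J)⁻¹ * N C)⁻¹ ∈ C.Z.XJ J ∧
      ((C.Z.n J)⁻¹ * N C)⁻¹ * x * ((C.Z.n J)⁻¹ * N C) ∈ C.Z.XJ J := by
  set M := (C.Z.n J)⁻¹ * N C with hM
  have hfix : M ∈ C.Φ.Fix := C.Z.le_fix (mul_mem (inv_mem (C.Z.n_mem J)) (N_mem C))
  have hmono : M ∈ chevF4.monomialSubgroup K :=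
    mul_mem (inv_mem (C.Z.n_mono J)) (C.Z.nT_mono _)
  have hact : good_F4.full.RootAct M (C.Z.w J * C.Z.pwT C.w0) := by
    have := good_F4.rootAct_mul (good_F4.rootAct_inv (C.Z.n_mono J) (C.Z.n_act J))
      (C.Z.nT_act C.w0)
    convert this using 1
    · rfl
    show C.Z.w J * _ = (C.Z.w J)⁻¹ * _
    rw [inv_eq_of_mul_eq_one_right (show C.Z.w J * C.Z.w J = 1 from C.Z.invol J)]
  have hsq : (C.Z.w J * C.Z.pwT C.w0)⁻¹ = C.Z.w J * C.Z.pwT C.w0 := by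
    refine inv_eq_of_mul_eq_one_right ?_
    rw [mul_assoc, ← mul_assoc (C.Z.pwT C.w0), C.w0_neg.central, mul_assoc (C.Z.w J),
      C.w0_neg.sq, mul_one]
    exact C.Z.invol J
  have hstab : ∀ s ∈ flipSet (C.Z.w J), ∃ hs : s < chevF4.nroots,
      ((C.Z.w J * C.Z.pwT C.w0) ⟨s, hs⟩).val ∈ flipSet (C.Z.w J) := by
    intro s hs
    refine ⟨hs.1, ?_⟩
    have hneg : C.Z.pwT C.w0 ⟨s, hs.1⟩ = negF ⟨s, hs.1⟩ := by
      refine Fin.ext ?_
      rw [Good.Twisted.pwT, good_F4.pw_apply]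
      show F4Data.tab.wordT ((C.w0.flatMap fun J => toFins chevF4.rank
        (F4Tw.words.getD J.val [])).map Fin.val) s = negR chevF4 s
      rw [show (C.w0.flatMap fun J => toFins chevF4.rank (F4Tw.words.getD J.val [])).map
        Fin.val = [0, 3, 1, 2, 1, 2, 0, 3, 1, 2, 1, 2, 0, 3, 1, 2, 1, 2, 0, 3, 1, 2, 1, 2]
        from rfl]
      exact F4Tw.negWord s hs.1
    rw [Equiv.Perm.mul_apply, hneg, show C.Z.w J (negF ⟨s, hs.1⟩) = negF (C.Z.w J ⟨s, hs.1⟩) from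
      good_F4.negF_pw _ _]
    exact C.Z.neg_w_mem_flip (s := ⟨s, hs.1⟩) hs
  obtain ⟨h1, h2⟩ := Subgroup.mem_inf.mp hx
  refine ⟨⟨C.Z.fix_conj hfix h1, good_F4.conj_x_act hact hstab h2⟩, ?_⟩
  have := good_F4.conj_x_act (good_F4.rootAct_inv hmono hact) (by rw [hsq]; exact hstab) h2
  have h3 := C.Z.fix_conj (inv_mem hfix) h1
  rw [inv_inv] at this h3
  exact ⟨h3, this⟩

theorem N_conj_XJ {J : Fin C.Z.nJ} {x : GL chevF4.Idx K} (hx : x ∈ C.Z.XJ J) :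
    N C * x * (N C)⁻¹ ∈ C.Z.XN J := by
  rw [C.Z.mem_XN]
  have := (M_conj C hx).1
  convert this using 1
  group

theorem XN_le_V1 {J : Fin C.Z.nJ} {p : GL chevF4.Idx K} (hp : p ∈ C.Z.XN J) :
    p ∈ C.Z.V1 C.w0 := by
  rw [C.Z.mem_V1]
  refine C.Z.XJ_le_U1 J ?_
  have := (M_conj C (C.Z.mem_XN.mp hp)).2
  convert this using 1
  simp only [N]
  group

theorem XN_le_Lev (J : Fin C.Z.nJ) : C.Z.XN J ≤ Lev C J := by
  intro p hp
  have := mul_mem (mul_mem (n_mem_Lev C J) (XJ_le_Lev C J (C.Z.mem_XN.mp hp)))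
    (inv_mem (n_mem_Lev C J))
  convert this using 1
  group

/-- The elements commuting with the root group of `r0`. -/
noncomputable def Ce (C : F4Tw.Ctx K m) (r0 : ℕ) : Subgroup (GL chevF4.Idx K) :=
  Subgroup.centralizer (Set.range fun y : K => good_F4.full.x r0 y)

theorem mem_Ce {r0 : ℕ} {g : GL chevF4.Idx K} :
    g ∈ Ce C r0 ↔ ∀ y : K, good_F4.full.x r0 y * g = g * good_F4.full.x r0 y := by
  simp [Ce, Subgroup.mem_centralizer_iff]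

/-- What is needed of an orbit. -/
structure Axis (C : F4Tw.Ctx K m) (J : Fin C.Z.nJ) where
  r0 : ℕ
  lt : r0 < chevF4.nroots
  X_cent : C.Z.XJ J ≤ Ce C r0
  n_cent : C.Z.n J ∈ Ce C r0
  surj : ∀ z ∈ C.Z.H0, z ∈ Ce C r0 → ∃ t ∈ C.Z.H0, z = t * (C.Z.n J * t * (C.Z.n J)⁻¹)⁻¹

variable {C} {J : Fin C.Z.nJ}

omit C in
theorem delta_cent_aux {C : F4Tw.Ctx K m} {J : Fin C.Z.nJ} {r0 : ℕ} (hr : r0 < chevF4.nroots)
    (hnc : C.Z.n J ∈ Ce C r0) {t : GL chevF4.Idx K} (ht : t ∈ C.Z.H0) :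
    t * (C.Z.n J * t * (C.Z.n J)⁻¹)⁻¹ ∈ Ce C r0 := by
  have hn := (mem_Ce C).mp hnc
  have hn' := (mem_Ce C).mp (inv_mem hnc)
  rw [C.H0_eq] at ht
  obtain ⟨p, rfl⟩ := ht
  rw [mem_Ce C]
  intro y
  set c : K := ((F4Data.tab.chi r0 (C.cvec p) : Kˣ) : K) with hc
  have hc0 : c ≠ 0 := Units.ne_zero _
  have e1 : C.h p * good_F4.full.x r0 (y / c) = good_F4.full.x r0 y * C.h p := by
    have := C.h_conj_x hr p (y / c)
    rw [← hc, mul_div_cancel₀ _ hc0] at this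
    rw [← this]; group
  set n := C.Z.n J
  set x := good_F4.full.x r0 y
  set x' := good_F4.full.x r0 (y / c)
  have a1 : x' * n = n * x' := hn _
  have a2 : x * n⁻¹ = n⁻¹ * x := hn' _
  calc x * (C.h p * (n * C.h p * n⁻¹)⁻¹) = x * C.h p * n * (C.h p)⁻¹ * n⁻¹ := by group
    _ = C.h p * (x' * n) * (C.h p)⁻¹ * n⁻¹ := by rw [← e1]; group
    _ = C.h p * n * ((C.h p)⁻¹ * (C.h p * x')) * (C.h p)⁻¹ * n⁻¹ := by rw [a1]; group
    _ = C.h p * n * (C.h p)⁻¹ * (x * n⁻¹) := by rw [e1]; group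
    _ = C.h p * (n * C.h p * n⁻¹)⁻¹ * x := by rw [a2]; group

omit C in
theorem Axis.delta_cent {C : F4Tw.Ctx K m} {J : Fin C.Z.nJ} (A : Axis C J) {t : GL chevF4.Idx K}
    (ht : t ∈ C.Z.H0) : t * (C.Z.n J * t * (C.Z.n J)⁻¹)⁻¹ ∈ Ce C A.r0 :=
  delta_cent_aux A.lt A.n_cent ht

omit C in
/-- The main step. -/
theorem Axis.move_core {C : F4Tw.Ctx K m} {J : Fin C.Z.nJ} (A : Axis C J)
    {p h r h' : GL chevF4.Idx K} (hp : p ∈ C.Z.XN J) (hp1 : p ≠ 1) (hh : h ∈ C.Z.H0)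
    (hr : r ∈ C.Z.XJ J) (hh' : h' ∈ C.Z.H0) (hc : h' * h⁻¹ ∈ Ce C A.r0) :
    ∃ y ∈ Lev C J, ∃ p' ∈ C.Z.XN J, ∃ r' ∈ C.Z.XJ J, y * (p * h * r) * y⁻¹ = p' * h' * r' := by
  set n := C.Z.n J with hn
  have hconjX : ∀ t ∈ C.Z.H0, ∀ x ∈ C.Z.XJ J, t * x * t⁻¹ ∈ C.Z.XJ J := fun t ht x hx =>
    C.Z.H0_conj_US (fun s hs => hs.1) ht hx
  have hu : n⁻¹ * p * n ∈ C.Z.XJ J := C.Z.mem_XN.mp hp
  set u := n⁻¹ * p * n with hudef
  have hu1 : u ≠ 1 := fun e => hp1 (by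
    calc p = n * u * n⁻¹ := by rw [hudef]; group
      _ = 1 := by rw [e]; group)
  obtain ⟨a, ha, k, hk, b, hb, e⟩ := (C.gen_data.orbit J).rank_one (C.Z.n_fix J) (C.Z.n_mono J)
    (C.Z.n_act J) hu hu1
  change a ∈ C.Z.XJ J at ha
  change b ∈ C.Z.XJ J at hb
  change n * u * n⁻¹ = a * k * n * b at e
  have hk0 : k ∈ C.Z.H0 := by
    rw [C.H0_eq]; exact C.mem_fix_diag.mp hk
  have hkc : k ∈ Ce C A.r0 := by
    have : k = a⁻¹ * (n * u * n⁻¹) * b⁻¹ * n⁻¹ := by rw [e]; group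
    rw [this]
    exact mul_mem (mul_mem (mul_mem (inv_mem (A.X_cent ha))
      (mul_mem (mul_mem A.n_cent (A.X_cent hu)) (inv_mem A.n_cent))) (inv_mem (A.X_cent hb)))
      (inv_mem A.n_cent)
  set Q := n * n with hQ
  have hQ0 : Q ∈ C.Z.H0 := C.Z.n_sq J
  set Kk := n⁻¹ * k * n with hKk
  have hKk0 : Kk ∈ C.Z.H0 := n_conj_inv C J hk0
  set W := h' * (Q * Kk * h)⁻¹ with hW
  have hW0 : W ∈ C.Z.H0 := mul_mem hh' (inv_mem (mul_mem (mul_mem hQ0 hKk0) hh))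
  have hWc : W ∈ Ce C A.r0 := by
    have : W = h' * h⁻¹ * (Kk⁻¹ * Q⁻¹) := by rw [hW]; group
    rw [this]
    exact mul_mem hc (mul_mem (inv_mem (mul_mem (mul_mem (inv_mem A.n_cent) hkc) A.n_cent))
      (inv_mem (mul_mem A.n_cent A.n_cent)))
  obtain ⟨t', ht', ez⟩ := A.surj (k⁻¹ * (n⁻¹ * W * n)) (mul_mem (inv_mem hk0) (n_conj_inv C J hW0))
    (mul_mem (inv_mem hkc) (mul_mem (mul_mem (inv_mem A.n_cent) hWc) A.n_cent))
  rw [← hn] at ez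
  set t := n⁻¹ * t' * n with ht
  have ht0 : t ∈ C.Z.H0 := n_conj_inv C J ht'
  set c := Q * (t * u * t⁻¹) * Q⁻¹ with hcdef
  have hcX : c ∈ C.Z.XJ J := hconjX Q hQ0 _ (hconjX t ht0 u hu)
  refine ⟨c * a⁻¹, mul_mem (XJ_le_Lev C J hcX) (inv_mem (XJ_le_Lev C J ha)),
    n * (t' * a * t'⁻¹) * n⁻¹, ?_,
    h⁻¹ * (Kk⁻¹ * (t' * b * t'⁻¹) * Kk * b) * h * r * (c * a⁻¹)⁻¹, ?_, ?_⟩
  · rw [C.Z.mem_XN, ← hn]
    convert hconjX t' ht' a ha using 1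
    group
  · refine mul_mem (mul_mem ?_ hr) (inv_mem (mul_mem hcX (inv_mem ha)))
    have h1 := mul_mem (hconjX _ (inv_mem hKk0) _ (hconjX t' ht' b hb)) hb
    rw [inv_inv] at h1
    have h2 := hconjX _ (inv_mem hh) _ h1
    rwa [inv_inv] at h2
  · have ep : p = a * k * n * b := by rw [← e, hudef]; group
    have ec : c = n * (t' * a * t'⁻¹) * (t' * k * n * t'⁻¹ * n⁻¹) * n * (t' * b * t'⁻¹) * n⁻¹ := by
      calc c = n * (t' * (n * u * n⁻¹) * t'⁻¹) * n⁻¹ := by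
            rw [hcdef, hQ, ht]; group
        _ = _ := by rw [e]; group
    have hcomm : t' * k = k * t' := H0_comm C ht' hk0
    have eW : n * (t' * k * n * t'⁻¹ * n⁻¹) * n⁻¹ = W := by
      calc n * (t' * k * n * t'⁻¹ * n⁻¹) * n⁻¹
          = n * (k * (t' * (n * t' * n⁻¹)⁻¹)) * n⁻¹ := by rw [hcomm]; group
        _ = _ := by rw [← ez]; group
    calc c * a⁻¹ * (p * h * r) * (c * a⁻¹)⁻¹
        = c * k * n * b * h * r * (c * a⁻¹)⁻¹ := by rw [ep]; group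
      _ = n * (t' * a * t'⁻¹) * n⁻¹ * (n * (t' * k * n * t'⁻¹ * n⁻¹) * n⁻¹ * Q * Kk * h) *
            (h⁻¹ * (Kk⁻¹ * (t' * b * t'⁻¹) * Kk * b) * h * r * (c * a⁻¹)⁻¹) := by
          rw [hQ, hKk]
          nth_rewrite 1 [ec]
          group
      _ = _ := by rw [eW, hW]; group

omit C in
/-- The torus part can be changed unless everything is trivial. -/
theorem Axis.move {C : F4Tw.Ctx K m} {J : Fin C.Z.nJ} (A : Axis C J)
    {p h r h' : GL chevF4.Idx K} (hp : p ∈ C.Z.XN J) (hh : h ∈ C.Z.H0) (hr : r ∈ C.Z.XJ J)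
    (hne : (∃ x ∈ C.Z.XJ J, h * x ≠ x * h) ∨ p ≠ 1 ∨ r ≠ 1) (hh' : h' ∈ C.Z.H0)
    (hc : h' * h⁻¹ ∈ Ce C A.r0) :
    ∃ y ∈ Lev C J, ∃ p' ∈ C.Z.XN J, ∃ r' ∈ C.Z.XJ J, y * (p * h * r) * y⁻¹ = p' * h' * r' := by
  by_cases hp1 : p ≠ 1
  · exact A.move_core hp hp1 hh hr hh' hc
  push Not at hp1
  subst hp1
  set n := C.Z.n J with hn
  have hconjX : ∀ t ∈ C.Z.H0, ∀ x ∈ C.Z.XJ J, t * x * t⁻¹ ∈ C.Z.XJ J := fun t ht x hx =>
    C.Z.H0_conj_US (fun s hs => hs.1) ht hx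
  -- reduce to a nontrivial right hand part
  obtain ⟨y0, hy0, r1, hr1, hr11, e0⟩ : ∃ y0 ∈ Lev C J, ∃ r1 ∈ C.Z.XJ J, r1 ≠ 1 ∧
      y0 * (1 * h * r) * y0⁻¹ = h * r1 := by
    by_cases hr1 : r ≠ 1
    · exact ⟨1, one_mem _, r, hr, hr1, by group⟩
    push Not at hr1
    subst hr1
    obtain ⟨x, hx, hxne⟩ := hne.resolve_right (by simp)
    refine ⟨x, XJ_le_Lev C J hx, h⁻¹ * x * h * x⁻¹, mul_mem ?_ (inv_mem hx), fun e => hxne ?_,
      by group⟩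
    · have := hconjX _ (inv_mem hh) x hx
      rwa [inv_inv] at this
    · calc h * x = h * (h⁻¹ * x * h * x⁻¹) * x := by rw [e]; group
        _ = x * h := by group
  -- turn it to the left
  set H := n * h * n⁻¹ with hH
  have hH0 : H ∈ C.Z.H0 := C.Z.n_conj J h hh
  have hP : H * (n * r1 * n⁻¹) * H⁻¹ ∈ C.Z.XN J := by
    rw [C.Z.mem_XN, ← hn]
    convert hconjX _ (n_conj_inv C J hH0) r1 hr1 using 1
    simp only [hn]
    group
  obtain ⟨y, hy, p', hp', r', hr', e⟩ := A.move_core (r := 1) hP (fun e => hr11 (by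
      rw [conj_eq_one_iff, conj_eq_one_iff] at e; exact e)) hH0 (one_mem _) hh' (by
    have := mul_mem hc (A.delta_cent hh)
    convert this using 1
    rw [← hn, ← hH]
    group)
  refine ⟨y * (n * y0), mul_mem hy (mul_mem (n_mem_Lev C J) hy0), p', hp', r', hr', ?_⟩
  rw [← e]
  calc y * (n * y0) * (1 * h * r) * (y * (n * y0))⁻¹
      = y * (n * (y0 * (1 * h * r) * y0⁻¹) * n⁻¹) * y⁻¹ := by group
    _ = _ := by rw [e0, hH]; group

omit C in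
/-- Splitting a cell along an orbit. -/
theorem split_cell (C : F4Tw.Ctx K m) (J : Fin C.Z.nJ) {v u : GL chevF4.Idx K}
    (hv : v ∈ C.Z.V1 C.w0) (hu : u ∈ C.Z.U1) :
    ∃ a ∈ C.Z.radV C.w0 J, ∃ p ∈ C.Z.XN J, ∃ r ∈ C.Z.XJ J, ∃ b ∈ C.Z.radT J,
      v = a * p ∧ u = r * b := by
  obtain ⟨a, ha, x, hx, rfl⟩ := C.Z.V1_split C.w0 J hv
  obtain ⟨b, hb, r, hr, rfl⟩ := C.Z.U1_split J hu
  refine ⟨a, ha, _, N_conj_XJ C hx, r, hr, r⁻¹ * b * r, ?_, rfl, by group⟩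
  have := Lev_conj_radT C (inv_mem (XJ_le_Lev C J hr)) hb
  rwa [inv_inv] at this

omit C in
/-- Changing the torus part of a cell. -/
theorem Axis.move_cell {C : F4Tw.Ctx K m} {J : Fin C.Z.nJ} (A : Axis C J)
    {y g a p h r b h' : GL chevF4.Idx K} (hy : y ∈ C.Z.G1) (ha : a ∈ C.Z.radV C.w0 J)
    (hp : p ∈ C.Z.XN J) (hh : h ∈ C.Z.H0) (hr : r ∈ C.Z.XJ J) (hb : b ∈ C.Z.radT J)
    (e : y * g * y⁻¹ = a * p * h * (r * b))
    (hne : (∃ x ∈ C.Z.XJ J, h * x ≠ x * h) ∨ p ≠ 1 ∨ r ≠ 1) (hh' : h' ∈ C.Z.H0)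
    (hc : h' * h⁻¹ ∈ Ce C A.r0) : C.Z.CellT C.w0 g h' := by
  obtain ⟨l, hl, p', hp', r', hr', el⟩ := A.move hp hh hr hne hh' hc
  refine ⟨l * y, mul_mem ((mem_Lev C).mp hl).1.1 hy, l * a * l⁻¹ * p',
    mul_mem (C.Z.radV_le_V1 _ _ (Lev_conj_radV C hl ha)) (XN_le_V1 C hp'), r' * (l * b * l⁻¹),
    mul_mem (C.Z.XJ_le_U1 J hr') (C.Z.radT_le_U1 J (Lev_conj_radT C hl hb)), ?_⟩
  calc l * y * g * (l * y)⁻¹ = l * (y * g * y⁻¹) * l⁻¹ := by group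
    _ = l * a * l⁻¹ * (l * (p * h * r) * l⁻¹) * (l * b * l⁻¹) := by rw [e]; group
    _ = _ := by rw [el]; group

end CfsgLib.ReeSq
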