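import Cfsg.Agent.ReeSq.Levi
import Cfsg.Agent.ReeSq.Cells
import Cfsg.Agent.SzUnique.Main
import Cfsg.Agent.S2457

/-!
`²F₄(q)`, `q ≥ 8`: the rank one group of the quadruple orbit is a Suzuki group.
-/

set_option autoImplicit false
set_option linter.style.haveILetI false
set_option linter.unusedSectionVars false

namespace CfsgLib.ReeSq

open Cfsg.Lie Matrix CfsgLib.Chev CfsgLib.Chev.Tab
open scoped MatrixGroups commutatorElement

variable {K : Type*} [Field K] [Fintype K] {m : ℕ} (C : F4Tw.Ctx K m)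

/-- The point stabiliser. -/
noncomputable def B1 (C : F4Tw.Ctx K m) : Subgroup ↥(L1 C) :=
  (chevF4.borelSubgroup K).subgroupOf (L1 C)

/-- The points. -/
abbrev Pt (C : F4Tw.Ctx K m) : Type _ := ↥(L1 C) ⧸ B1 C

/-- The root group inside. -/
noncomputable def X1 (C : F4Tw.Ctx K m) : Subgroup ↥(L1 C) := (C.Z.XJ C.K1).subgroupOf (L1 C)

/-- The representative inside. -/
noncomputable def nE (C : F4Tw.Ctx K m) : ↥(L1 C) := ⟨C.Z.n C.K1, n1_mem C⟩

/-- The torus inside. -/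
noncomputable def sE (C : F4Tw.Ctx K m) (s : Kˣ) : ↥(L1 C) := ⟨C.h (1, s), S_mem C s⟩

/-- The first point. -/
noncomputable def pa (C : F4Tw.Ctx K m) : Pt C := ((1 : ↥(L1 C)) : Pt C)

/-- The second point. -/
noncomputable def pb (C : F4Tw.Ctx K m) : Pt C := ((nE C : ↥(L1 C)) : Pt C)

include C

theorem finite_L1 : Finite ↥(L1 C) := inferInstance

theorem mem_B1 {g : ↥(L1 C)} : g ∈ B1 C ↔ (g : GL chevF4.Idx K) ∈ chevF4.borelSubgroup K :=
  Iff.rfl

theorem mem_X1 {g : ↥(L1 C)} : g ∈ X1 C ↔ (g : GL chevF4.Idx K) ∈ C.Z.XJ C.K1 := Iff.rfl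

theorem X1_le_B1 : X1 C ≤ B1 C := fun _ hg => X1_borel C hg

theorem sE_mem (s : Kˣ) : sE C s ∈ B1 C := H0_borel C (h_mem_H0 C _)

theorem nE_notMem : nE C ∉ B1 C := n1_notMem C

theorem B1_cases {g : ↥(L1 C)} (hg : g ∈ B1 C) : ∃ x ∈ X1 C, ∃ s, g = x * sE C s := by
  obtain ⟨x, hx, t, ⟨ht, htL⟩, e | ⟨x', hx', e⟩⟩ := form_of_mem C g.2
  · obtain ⟨s, rfl⟩ := H0_L1 C ht htL
    exact ⟨⟨x, X1_le C hx⟩, hx, s, Subtype.ext e⟩
  · exfalso
    refine n1_notMem C ?_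
    have hg' : (g : GL chevF4.Idx K) ∈ chevF4.borelSubgroup K := hg
    have hb := mul_mem (mul_mem (inv_mem (mul_mem (X1_borel C hx) (H0_borel C ht))) hg')
      (inv_mem (X1_borel C hx'))
    rw [e] at hb
    convert hb using 1
    group

theorem X1_normal {g : ↥(L1 C)} (hg : g ∈ B1 C) {x : ↥(L1 C)} (hx : x ∈ X1 C) :
    g * x * g⁻¹ ∈ X1 C := by
  obtain ⟨y, hy, s, rfl⟩ := B1_cases C hg
  have h1 : sE C s * x * (sE C s)⁻¹ ∈ X1 C := conj_X1 C (h_mem_H0 C _) hx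
  rw [show y * sE C s * x * (y * sE C s)⁻¹ = y * (sE C s * x * (sE C s)⁻¹) * y⁻¹ by group]
  exact mul_mem (mul_mem hy h1) (inv_mem hy)

theorem n_conj_sE (s : Kˣ) : (nE C)⁻¹ * sE C s * nE C ∈ B1 C :=
  H0_borel C (n_conj_inv C C.K1 (h_mem_H0 C _))

theorem sE_pb (s : Kˣ) : sE C s • pb C = pb C := by
  show ((sE C s * nE C : ↥(L1 C)) : Pt C) = _
  refine (QuotientGroup.eq).mpr ?_
  rw [show (sE C s * nE C)⁻¹ * nE C = ((nE C)⁻¹ * sE C s * nE C)⁻¹ by group]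
  exact inv_mem (n_conj_sE C s)

theorem smul_pa {g : ↥(L1 C)} : g • pa C = pa C ↔ g ∈ B1 C := by
  show ((g * 1 : ↥(L1 C)) : Pt C) = _ ↔ _
  rw [mul_one, pa, QuotientGroup.eq, mul_one, Subgroup.inv_mem_iff]

theorem pb_ne : pb C ≠ pa C := by
  rw [pb, pa, Ne, QuotientGroup.eq, mul_one, Subgroup.inv_mem_iff]
  exact nE_notMem C

theorem smul_pb_inj {x y : ↥(L1 C)} (hx : x ∈ X1 C) (hy : y ∈ X1 C)
    (h : x • pb C = y • pb C) : x = y := by
  by_contra hne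
  have hz : x⁻¹ * y ∈ X1 C := mul_mem (inv_mem hx) hy
  have hz1 : x⁻¹ * y ≠ 1 := fun e => hne (inv_mul_eq_one.mp e)
  change ((x * nE C : ↥(L1 C)) : Pt C) = ((y * nE C : ↥(L1 C)) : Pt C) at h
  rw [QuotientGroup.eq] at h
  have h' : (nE C)⁻¹ * (x⁻¹ * y) * nE C ∈ B1 C := by
    convert h using 1
    group
  -- turn `n⁻¹ · n` into `n · n⁻¹`
  have h2 : nE C * (x⁻¹ * y) * (nE C)⁻¹ ∈ B1 C := by
    have hQ : nE C * nE C ∈ B1 C := H0_borel C (C.Z.n_sq C.K1)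
    have := mul_mem (mul_mem hQ h') (inv_mem hQ)
    convert this using 1
    group
  exact n1_not_borel C hz (fun e => hz1 (Subtype.ext e)) h2

theorem point_cases (y : Pt C) : y = pa C ∨ ∃ x ∈ X1 C, y = x • pb C := by
  induction y using QuotientGroup.induction_on with
  | H g =>
    obtain ⟨x, hx, t, ⟨ht, htL⟩, e | ⟨x', hx', e⟩⟩ := form_of_mem C g.2
    · refine Or.inl ?_
      have h : g ∈ B1 C := (mem_B1 C).mpr (e ▸ mul_mem (X1_borel C hx) (H0_borel C ht))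
      rw [← (smul_pa C).mpr h]
      show _ = ((g * 1 : ↥(L1 C)) : Pt C)
      rw [mul_one]
    · refine Or.inr ⟨⟨x, X1_le C hx⟩, hx, ?_⟩
      show _ = ((⟨x, X1_le C hx⟩ * nE C : ↥(L1 C)) : Pt C)
      rw [QuotientGroup.eq, mem_B1]
      show (g : GL chevF4.Idx K)⁻¹ * (x * C.Z.n C.K1) ∈ _
      rw [e, show (x * t * C.Z.n C.K1 * x')⁻¹ * (x * C.Z.n C.K1) =
        x'⁻¹ * ((C.Z.n C.K1)⁻¹ * t * C.Z.n C.K1)⁻¹ by group]
      exact mul_mem (inv_mem (X1_borel C hx'))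
        (inv_mem (H0_borel C (n_conj_inv C C.K1 ht)))

theorem exists_to_pa (y : Pt C) : ∃ g : ↥(L1 C), g • y = pa C := by
  obtain ⟨g, hg⟩ := MulAction.exists_smul_eq (↥(L1 C)) y (pa C)
  exact ⟨g, hg⟩

theorem exists_to_base {y z : Pt C} (h : y ≠ z) :
    ∃ g : ↥(L1 C), g • y = pa C ∧ g • z = pb C := by
  obtain ⟨g, hg⟩ := exists_to_pa C y
  rcases point_cases C (g • z) with e | ⟨x, hx, e⟩
  · exact absurd (smul_left_cancel g (hg.trans e.symm)) h
  · refine ⟨x⁻¹ * g, ?_, ?_⟩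
    · rw [mul_smul, hg, smul_pa]
      exact inv_mem (X1_le_B1 C hx)
    · rw [mul_smul, e, inv_smul_smul]

theorem two_trans : MulAction.IsMultiplyPretransitive ↥(L1 C) (Pt C) 2 := by
  rw [MulAction.is_two_pretransitive_iff]
  intro a b c d hab hcd
  obtain ⟨g, g1, g2⟩ := exists_to_base C hab
  obtain ⟨k, k1, k2⟩ := exists_to_base C hcd
  exact ⟨k⁻¹ * g, by rw [mul_smul, g1, ← k1, inv_smul_smul],
    by rw [mul_smul, g2, ← k2, inv_smul_smul]⟩

theorem fix_three {g : ↥(L1 C)} {a b c : Pt C} (hab : a ≠ b) (hbc : b ≠ c) (hac : a ≠ c)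
    (ha : g • a = a) (hb : g • b = b) (hc : g • c = c) : g = 1 := by
  obtain ⟨k, k1, k2⟩ := exists_to_base C hab
  set g' := k * g * k⁻¹ with hg'
  have e : ∀ y : Pt C, g • y = y → g' • (k • y) = k • y := fun y hy => by
    rw [hg', mul_smul, inv_smul_smul, mul_smul, hy]
  have hga := e a ha
  have hgb := e b hb
  rw [k1] at hga
  rw [k2] at hgb
  obtain ⟨x, hx, s, es⟩ := B1_cases C ((smul_pa C).mp hga)
  have hx1 : x = 1 := by
    refine smul_pb_inj C hx (one_mem _) ?_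
    rw [one_smul]
    rw [es, mul_smul, sE_pb] at hgb
    exact hgb
  rw [hx1, one_mul] at es
  rcases point_cases C (k • c) with h | ⟨z, hz, h⟩
  · exact absurd (smul_left_cancel k (k1.trans h.symm)) hac
  have hz1 : z ≠ 1 := fun e' => by
    rw [e', one_smul, ← k2] at h
    exact hbc (smul_left_cancel k h).symm
  have hgc := e c hc
  rw [h, es] at hgc
  have hzz : sE C s * z * (sE C s)⁻¹ = z := by
    refine smul_pb_inj C (conj_X1 C (h_mem_H0 C _) hz : _ ∈ C.Z.XJ C.K1) hz ?_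
    rw [mul_smul, mul_smul, show (sE C s)⁻¹ • pb C = pb C by
      rw [inv_smul_eq_iff, sE_pb]]
    exact hgc
  have hs : s = 1 := S_fix C (x := (z : GL chevF4.Idx K)) hz (fun e' => hz1 (Subtype.ext e')) (by
    have h1 := congrArg Subtype.val hzz
    simp only [Subgroup.coe_mul, Subgroup.coe_inv, mul_inv_eq_iff_eq_mul] at h1
    exact h1)
  have h1 : g' = 1 := by
    rw [es, hs]
    exact Subtype.ext (map_one C.h)
  rwa [hg', conj_eq_one_iff] at h1

theorem exists_unit (hm : 1 ≤ m) : ∃ s : Kˣ, s ≠ 1 := by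
  obtain ⟨s, hs⟩ := exists_s C hm 1
  exact ⟨s, fun e => hs (by simp [e, F4Tw.Ctx.chP])⟩

theorem exists_X1_ne : ∃ x ∈ X1 C, x ≠ 1 := by
  obtain ⟨x, hx, hx1⟩ := C.xNontrivial C.K1
  exact ⟨⟨x, X1_le C hx⟩, hx, fun e => hx1 (congrArg Subtype.val e)⟩

theorem faithful_pt : FaithfulSMul ↥(L1 C) (Pt C) := by
  refine ⟨fun {g h} e => ?_⟩
  obtain ⟨x, hx, hx1⟩ := exists_X1_ne C
  have h1 : pb C ≠ x • pb C := fun e' => hx1 (smul_pb_inj C hx (one_mem _) (by rw [one_smul, ← e']))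
  have h2 : pa C ≠ x • pb C := fun e' => pb_ne C (by
    have := congrArg (x⁻¹ • ·) e'
    simp only [inv_smul_smul] at this
    rw [← this, smul_pa]
    exact inv_mem (X1_le_B1 C hx))
  have key : ∀ y : Pt C, (h⁻¹ * g) • y = y := fun y => by
    rw [mul_smul, e, inv_smul_smul]
  exact (inv_mul_eq_one.mp
    (fix_three C (pb_ne C).symm h1 h2 (key _) (key _) (key _))).symm

/-- An element of the root group with given coordinates. -/
theorem qE_mem (a b : K) : C.U 1 a b ∈ C.Z.XJ C.K1 := C.mem_XJ.mpr ⟨a, b, rfl⟩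

theorem comm_X1 (hm : 1 ≤ m) : X1 C ≤ commutator ↥(L1 C) := by
  obtain ⟨s, hs⟩ := exists_unit C hm
  set cs : ↥(L1 C) := sE C s
  have hz : C.chZ (1, s) ≠ 1 := by simpa [F4Tw.Ctx.chZ] using hs
  have hq : C.chQ (1, s) ≠ 1 := fun h1 => by
    simp only [F4Tw.Ctx.chQ, inv_one, mul_one] at h1
    rw [inv_mul_eq_one, ← pow_two] at h1
    exact hs (C.units_pow_e_inj (sq_inj C h1))
  have hne : ∀ c : Kˣ, c ≠ 1 → (c : K) + 1 ≠ 0 := fun c hc h =>
    hc (Units.ext (by rw [Units.val_one, eq_neg_of_add_eq_zero_left h, C.neg_eq]))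
  -- commutators with the torus
  have hcomm : ∀ a b : K, ∃ b', (⟨C.U 1 (((C.chQ (1, s) : K) + 1) * a) b',
      X1_le C (qE_mem C _ _)⟩ : ↥(L1 C)) ∈ commutator ↥(L1 C) ∧
      (a = 0 → b' = ((C.chZ (1, s) : K) + 1) * b) := by
    intro a b
    obtain ⟨b1, e1, e2⟩ := C.eH_eQ (1, s) a b
    have e3 := C.eQ_mul ((C.chQ (1, s) : K) * a) b1 a (b + a ^ 2 ^ m * a)
    have hinv : C.eQ a (b + a ^ 2 ^ m * a) = (C.eQ a b)⁻¹ := eq_inv_of_mul_eq_one_left (by
      rw [C.eQ_mul, C.add_self, show b + a ^ 2 ^ m * a + b + a ^ 2 ^ m * a =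
        (b + b) + (a ^ 2 ^ m * a + a ^ 2 ^ m * a) by ring, C.add_self, C.add_self, add_zero,
        C.eQ_zero])
    rw [← e1, hinv] at e3
    refine ⟨b1 + (b + a ^ 2 ^ m * a) + ((C.chQ (1, s) : K) * a) ^ 2 ^ m * a, ?_, fun ha => ?_⟩
    · have h := Subgroup.commutator_mem_commutator (Subgroup.mem_top cs)
        (Subgroup.mem_top (⟨C.U 1 a b, X1_le C (qE_mem C a b)⟩ : ↥(L1 C)))
      rw [← commutator_def] at h
      convert h using 1
      refine Subtype.ext ?_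
      have e4 := congrArg Subtype.val e3
      rw [show ((C.chQ (1, s) : K) + 1) * a = (C.chQ (1, s) : K) * a + a by ring]
      exact e4.symm
    · subst ha
      simp only [mul_zero, zero_pow (Nat.succ_ne_zero _), zero_add] at e2
      simp only [mul_zero, add_zero]
      linear_combination -e2
  intro x hx
  obtain ⟨a, b, e⟩ := X1_cases C ((mem_X1 C).mp hx)
  obtain ⟨b1, h1, -⟩ := hcomm (a / ((C.chQ (1, s) : K) + 1)) 0
  obtain ⟨b2, h2, h2'⟩ := hcomm 0 ((b + b1) / ((C.chZ (1, s) : K) + 1))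
  obtain rfl := h2' rfl
  have := mul_mem h1 h2
  convert this using 1
  refine Subtype.ext ?_
  rw [e]
  have e4 := congrArg Subtype.val (C.eQ_mul a b1 0 (b + b1))
  rw [add_zero, mul_zero, add_zero, show b1 + (b + b1) = b + (b1 + b1) by ring, C.add_self,
    add_zero] at e4
  show C.U 1 a b = C.U 1 _ _ * C.U 1 _ _
  rw [mul_div_cancel₀ _ (hne _ hq), mul_zero, mul_div_cancel₀ _ (hne _ hz)]
  exact e4.symm

theorem perfect (hm : 1 ≤ m) : commutator ↥(L1 C) = ⊤ := by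
  haveI : (commutator ↥(L1 C)).Normal := inferInstance
  rw [eq_top_iff]
  rintro g -
  have hX := comm_X1 C hm
  have hn : nE C ∈ commutator ↥(L1 C) := by
    obtain ⟨a, ha, v, hv, u, hu, e⟩ := exists_n1 C
    have := mul_mem (mul_mem (inv_mem (hX (show (⟨a, X1_le C ha⟩ : ↥(L1 C)) ∈ X1 C from ha)))
      ((‹(commutator ↥(L1 C)).Normal›).conj_mem _
        (hX (show (⟨u, X1_le C hu⟩ : ↥(L1 C)) ∈ X1 C from hu)) (nE C)))
      (inv_mem (hX (show (⟨v, X1_le C hv⟩ : ↥(L1 C)) ∈ X1 C from hv)))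
    convert this using 1
    exact Subtype.ext e
  obtain ⟨g, hg⟩ := g
  induction hg using Subgroup.closure_induction with
  | mem y hy =>
    rcases hy with hy | rfl
    · exact hX hy
    · exact hn
  | one => exact one_mem _
  | mul a b ha hb iha ihb => exact mul_mem iha ihb
  | inv a ha iha => exact inv_mem iha

theorem X1_isPGroup : IsPGroup 2 (X1 C) := by
  refine IsPGroup.of_card (n := (2 * m + 1) * 2) ?_
  rw [X1, Nat.card_congr (Subgroup.subgroupOfEquivOfLe (X1_le C)).toEquiv, C.card_X, ← pow_mul]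
  rfl

theorem normal_trans {H : Subgroup ↥(L1 C)} (hH : H.Normal) (hne : H ≠ ⊥) (y : Pt C) :
    ∃ ν ∈ H, ν • pa C = y := by
  haveI := two_trans C
  haveI := faithful_pt C
  obtain ⟨ν, hν, hνa⟩ : ∃ ν ∈ H, ν • pa C ≠ pa C := by
    by_contra h
    push Not at h
    refine hne ((Subgroup.eq_bot_iff_forall _).mpr fun ν hν => ?_)
    refine eq_of_smul_eq_smul (α := Pt C) fun z => ?_
    obtain ⟨g, hg⟩ := exists_to_pa C z
    rw [one_smul]
    refine smul_left_cancel g ?_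
    have := h _ (hH.conj_mem ν hν g)
    rw [mul_smul, mul_smul, ← hg, inv_smul_smul] at this
    exact this
  by_cases hy : y = pa C
  · exact ⟨1, one_mem _, by rw [one_smul, hy]⟩
  obtain ⟨g, g1, g2⟩ :=
    (MulAction.is_two_pretransitive_iff.mp (two_trans C)) hνa.symm (Ne.symm hy)
  refine ⟨g * ν * g⁻¹, hH.conj_mem ν hν g, ?_⟩
  rw [mul_smul, mul_smul]
  nth_rewrite 1 [← g1]
  rw [inv_smul_smul, g2]

theorem simple (hm : 1 ≤ m) : IsSimpleGroup ↥(L1 C) := by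
  haveI : Nontrivial ↥(L1 C) := by
    obtain ⟨x, -, hx1⟩ := exists_X1_ne C
    exact ⟨⟨x, 1, hx1⟩⟩
  refine ⟨fun H hH => or_iff_not_imp_left.mpr fun hne => ?_⟩
  haveI := hH
  by_contra htop
  let π := QuotientGroup.mk' H
  have hB : ∀ g : ↥(L1 C), ∃ b ∈ B1 C, π g = π b := fun g => by
    obtain ⟨ν, hν, e⟩ := normal_trans C hH hne (g • pa C)
    refine ⟨ν⁻¹ * g, (smul_pa C).mp (by rw [mul_smul, ← e, inv_smul_smul]), ?_⟩
    rw [map_mul, map_inv, show π ν = 1 from (QuotientGroup.eq_one_iff ν).mpr hν, inv_one, one_mul]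
  haveI hXn : ((X1 C).map π).Normal := by
    refine ⟨?_⟩
    rintro _ ⟨x, hx, rfl⟩ q
    obtain ⟨g, rfl⟩ := QuotientGroup.mk'_surjective H q
    obtain ⟨b, hb, e⟩ := hB g
    show π g * π x * (π g)⁻¹ ∈ _
    rw [e, ← map_mul, ← map_inv, ← map_mul]
    exact ⟨_, X1_normal C hb hx, rfl⟩
  have hperf : commutator (↥(L1 C) ⧸ H) = ⊤ := by
    rw [commutator_def, ← Subgroup.map_top_of_surjective π (QuotientGroup.mk'_surjective H),
      ← Subgroup.map_commutator, ← commutator_def, perfect C hm]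
  have hsup : (X1 C).map π = ⊤ := by
    rw [eq_top_iff, ← hperf, commutator_def, Subgroup.commutator_le]
    intro q1 _ q2 _
    obtain ⟨g1, rfl⟩ := QuotientGroup.mk'_surjective H q1
    obtain ⟨g2, rfl⟩ := QuotientGroup.mk'_surjective H q2
    obtain ⟨b1, hb1, e1⟩ := hB g1
    obtain ⟨b2, hb2, e2⟩ := hB g2
    change ⁅π g1, π g2⁆ ∈ _
    rw [e1, e2, ← map_commutatorElement]
    refine ⟨_, ?_, rfl⟩
    obtain ⟨x1, hx1, s1, rfl⟩ := B1_cases C hb1
    obtain ⟨x2, hx2, s2, rfl⟩ := B1_cases C hb2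
    have hc : sE C s1 * sE C s2 = sE C s2 * sE C s1 :=
      Subtype.ext (H0_comm C (h_mem_H0 C _) (h_mem_H0 C _)).eq
    have hS : ∀ s : Kˣ, ∀ x ∈ X1 C, sE C s * x * (sE C s)⁻¹ ∈ X1 C :=
      fun s x hx => X1_normal C (sE_mem C s) hx
    have e : ⁅x1 * sE C s1, x2 * sE C s2⁆ = x1 * (sE C s1 * x2 * (sE C s1)⁻¹) *
        (sE C s2 * x1⁻¹ * (sE C s2)⁻¹) * x2⁻¹ := by
      calc ⁅x1 * sE C s1, x2 * sE C s2⁆
          = x1 * (sE C s1 * x2 * (sE C s1)⁻¹) * (sE C s1 * sE C s2 * (sE C s1)⁻¹) * x1⁻¹ *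
              (sE C s2)⁻¹ * x2⁻¹ := by simp only [commutatorElement_def]; group
        _ = _ := by rw [hc]; group
    rw [e]
    exact mul_mem (mul_mem (mul_mem hx1 (hS s1 _ hx2)) (hS s2 _ (inv_mem hx1))) (inv_mem hx2)
  have hp : IsPGroup 2 (↥(L1 C) ⧸ H) := fun q => by
    obtain ⟨x, hx, rfl⟩ : q ∈ (X1 C).map π := by rw [hsup]; exact Subgroup.mem_top q
    obtain ⟨k, hk⟩ := X1_isPGroup C ⟨x, hx⟩
    refine ⟨k, ?_⟩
    rw [← map_pow, show x ^ 2 ^ k = 1 from congrArg Subtype.val hk, map_one]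
  haveI : Nontrivial (↥(L1 C) ⧸ H) := QuotientGroup.nontrivial_iff.mpr htop
  haveI : Fact (Nat.Prime 2) := ⟨Nat.prime_two⟩
  haveI := hp.isNilpotent
  exact absurd hperf (ne_of_lt (Group.IsSolvable.commutator_lt_top_of_nontrivial _))

theorem isZass (hm : 1 ≤ m) : Cfsg.IsZassenhausGroup ↥(L1 C) (Pt C) := by
  haveI := simple C hm
  refine ⟨faithful_pt C, two_trans C, fun g a b c hab hbc hac ha hb hc =>
    fix_three C hab hbc hac ha hb hc, ?_, fun H hH hT => ?_⟩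
  · obtain ⟨s, hs⟩ := exists_unit C hm
    refine ⟨sE C s, fun e => hs ?_, pa C, pb C, (pb_ne C).symm,
      (smul_pa C).mpr (sE_mem C s), sE_pb C s⟩
    have h1 : C.h (1, s) = C.h 1 := (congrArg Subtype.val e).trans (map_one C.h).symm
    exact congrArg Prod.snd (C.h_inj h1)
  · rcases hH.eq_bot_or_eq_top with rfl | rfl
    · exfalso
      obtain ⟨g, hg⟩ := hT.exists_smul_eq (pa C) (pb C)
      refine pb_ne C ?_
      rw [← hg]
      show (g : ↥(L1 C)) • pa C = pa C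
      rw [Subgroup.mem_bot.mp g.2, one_smul]
    · refine ⟨pa C, fun h => ?_⟩
      obtain ⟨x, hx, hx1⟩ := exists_X1_ne C
      have : (⟨x, Subgroup.mem_top x⟩ : (⊤ : Subgroup ↥(L1 C))) ∈
          MulAction.stabilizer (⊤ : Subgroup ↥(L1 C)) (pa C) :=
        (smul_pa C).mpr (X1_le_B1 C hx)
      have h2 := Subgroup.mem_bot.mp ((SetLike.ext_iff.mp h _).mp this)
      exact hx1 (congrArg Subtype.val h2)

theorem isoSuzuki (hm : 1 ≤ m) : Cfsg.Lie.IsoSuzuki ↥(L1 C) := by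
  classical
  haveI := simple C hm
  refine CfsgLib.SzUnique.isoSuzuki_of_zass (isZass C hm) (pa C) (X1 C)
    (fun g hg => (smul_pa C).mpr (X1_le_B1 C hg)) ?_ (X1_isPGroup C) ?_ ?_
  · refine ⟨fun x hx g => ?_⟩
    rw [Subgroup.mem_subgroupOf] at hx ⊢
    exact X1_normal C ((smul_pa C).mp g.2) hx
  · obtain ⟨l, hl⟩ := exists_unit C hm
    refine ⟨⟨⟨_, X1_le C (qE_mem C (l : K) 0)⟩, qE_mem C _ _⟩,
      ⟨⟨_, X1_le C (qE_mem C 1 0)⟩, qE_mem C _ _⟩, fun e => hl ?_⟩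
    have e' : C.eQ (l : K) 0 * C.eQ 1 0 = C.eQ 1 0 * C.eQ (l : K) 0 := Subtype.ext
      (congrArg (fun g : ↥(X1 C) => ((g : ↥(L1 C)) : GL chevF4.Idx K)) e)
    rw [C.eQ_mul, C.eQ_mul] at e'
    have h2 := (C.eQ_inj e').2
    simp only [zero_add, add_zero, mul_one, one_pow, one_mul] at h2
    exact C.units_pow_e_inj (Units.ext (by rw [Units.val_pow_eq_pow_val]; exact h2))
  · intro y z hy hz
    obtain ⟨x, hx, rfl⟩ := (point_cases C y).resolve_left hy
    obtain ⟨x', hx', rfl⟩ := (point_cases C z).resolve_left hz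
    refine ⟨⟨x' * x⁻¹, mul_mem hx' (inv_mem hx)⟩, ?_, fun u hu => Subtype.ext ?_⟩
    · show (x' * x⁻¹) • x • pb C = x' • pb C
      rw [← mul_smul, inv_mul_cancel_right]
    · change (u : ↥(L1 C)) • x • pb C = x' • pb C at hu
      rw [← mul_smul] at hu
      have := smul_pb_inj C (mul_mem u.2 hx) hx' hu
      exact eq_mul_inv_of_mul_eq this

theorem card_Pt : Nat.card (Pt C) = (2 ^ (2 * m + 1)) ^ 2 + 1 := by
  classical
  have e : Option ↥(X1 C) ≃ Pt C := Equiv.ofBijective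
    (fun o => o.elim (pa C) fun x => (x : ↥(L1 C)) • pb C) (by
      refine ⟨?_, fun y => ?_⟩
      · have hne : ∀ x : ↥(X1 C), (x : ↥(L1 C)) • pb C ≠ pa C := fun x h => pb_ne C (by
          rw [← inv_smul_smul (x : ↥(L1 C)) (pb C), h, smul_pa]
          exact inv_mem (X1_le_B1 C x.2))
        rintro (_ | x) (_ | x') h
        · rfl
        · exact absurd h.symm (hne x')
        · exact absurd h (hne x)
        · exact congrArg some (Subtype.ext (smul_pb_inj C x.2 x'.2 h))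
      · rcases point_cases C y with rfl | ⟨x, hx, rfl⟩
        exacts [⟨none, rfl⟩, ⟨some ⟨x, hx⟩, rfl⟩])
  rw [← Nat.card_congr e, Finite.card_option, X1,
    Nat.card_congr (Subgroup.subgroupOfEquivOfLe (X1_le C)).toEquiv, C.card_X]
  rfl

theorem five_dvd : 5 ∣ (2 ^ (2 * m + 1)) ^ 2 + 1 := by
  have h : (2 ^ (2 * m + 1)) ^ 2 = 4 * 16 ^ m := by
    rw [← pow_mul, show (2 * m + 1) * 2 = 2 + 4 * m by ring, pow_add, pow_mul]; norm_num
  rw [h, Nat.dvd_iff_mod_eq_zero, Nat.add_mod, Nat.mul_mod, Nat.pow_mod]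
  simp

/-- An element of order five whose class squares to everything but the identity. -/
theorem exists_five (hm : 1 ≤ m) : ∃ s : ↥(L1 C), orderOf s = 5 ∧
    ∀ g : ↥(L1 C), g ≠ 1 → ∃ P R : ↥(L1 C), g = P * s * P⁻¹ * (R * s * R⁻¹) := by
  haveI : Fact (Nat.Prime 5) := ⟨by norm_num⟩
  obtain ⟨s, hs⟩ := exists_prime_orderOf_dvd_card' (G := ↥(L1 C)) 5 (by
    refine dvd_trans (five_dvd C) ?_
    rw [← card_Pt C, ← Subgroup.index_eq_card]
    exact Subgroup.index_dvd_card _)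
  refine ⟨s, hs, fun g hg => ?_⟩
  obtain ⟨F, i1, i2, k, hk, hF, ⟨e⟩⟩ := isoSuzuki C hm
  obtain ⟨u, v, huv⟩ := Cfsg.Agent.S2457.result k hk hF (e s)
    (by rw [MulEquiv.orderOf_eq, hs]; norm_num) (e g) (fun h => hg (by simpa using h))
  refine ⟨e.symm u, e.symm v, ?_⟩
  have := congrArg e.symm huv
  simpa [map_mul, map_inv] using this

end CfsgLib.ReeSq
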